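import Mathlib
import Cfsg.Agent.H149.Sp.Base
import Cfsg.Agent.H713.Spor.Fi22
import Cfsg.Agent.NotCT.Orders

/-!
# `Fi22`: the primes `7, 11, 13` are pairwise non-adjacent (S2529)
-/

set_option autoImplicit false

namespace Cfsg.Agent.H163.PG

open Cfsg Subgroup

universe u

/-- non-adjacency from the order of the centralizers -/
theorem not_adj_of_cent {G : Type u} [Group G] [Finite G] {p q : ℕ} (hp : p.Prime) (hq : q.Prime)
    (h : ∀ x : G, orderOf x = p → ¬ q ∣ Nat.card (centralizer ({x} : Set G))) : ¬ Adj G p q := by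
  apply H149.Sp.not_adj_of_not_comm hp hq
  intro x y hx hy hxy
  apply h x hx
  rw [← hy, ← Subgroup.orderOf_mk y (mem_centralizer_singleton_iff.2 hxy.symm)]
  exact orderOf_dvd_natCard _

theorem fi22_has3Out {S : Type u} [Group S] [Finite S] (h : Spor.IsoFi22 S) : Has3Out S := by
  have hspor : IsSporadicGroup S := by
    unfold IsSporadicGroup
    simp only [h, true_or, or_true]
  have hc := NotCT.Orders.fi22 h
  obtain ⟨e⟩ := h
  refine H149.Sp.has3Out_of_odd hspor (p := 7) (q := 11) (r := 13) (by norm_num) (by norm_num) (by norm_num)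
    (by norm_num) (by norm_num) (by norm_num) (by rw [hc]; norm_num) ?_ ?_ ?_
  · refine fun hadj => not_adj_of_cent (G := S) (by norm_num) (by norm_num) (fun x hx => ?_) hadj.symm
    rw [H713.Spor.Fi22.cent_11 e hx]
    norm_num
  · refine not_adj_of_cent (by norm_num) (by norm_num) fun x hx => ?_
    rw [H713.Spor.Fi22.cent_11 e hx]
    norm_num
  · refine fun hadj => not_adj_of_cent (G := S) (by norm_num) (by norm_num) (fun x hx => ?_) hadj.symm
    rw [H713.Spor.Fi22.cent_13 e hx]
    norm_num

end Cfsg.Agent.H163.PG
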