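import Mathlib
import Cfsg.Agent.H163.PG.Fi22
import Cfsg.Agent.H163.PG.FiTool
import Cfsg.Agent.Schreier.FiTwentyThree

/-!
# `Fi23`: the primes `11, 13, 23` are pairwise non-adjacent (S2529)
-/

set_option autoImplicit false
set_option linter.constructorNameAsVariable false
set_option maxRecDepth 10000

namespace Cfsg.Agent.H163.PG.FiTT

open Cfsg Cfsg.Spor Cfsg.Agent.Fischer Cfsg.Agent.Fischer.Abstract Cfsg.Agent.R01 Cfsg.Agent.R08.FiTwentyThree
open Cfsg.Agent.Fischer.Fi23Class (K)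
open Cfsg.Agent.Fischer.Fi23Z (z0)
open Cfsg.Agent.LThreeFi22 Subgroup

theorem ctx22 : Ctx Fi22 Fi22Facts.T := by
  have h := Inst.ctx (MulEquiv.refl Fi22)
  have h2 : KFacts.FiTT.TK (MulEquiv.refl Fi22) = Fi22Facts.T := by
    unfold KFacts.FiTT.TK
    simp
  rwa [h2] at h

theorem ncard_S : S.ncard = 3510 := by
  rw [← ctx22.ncard]
  have h1 : pi '' S = Fi22Facts.T := by
    ext t
    constructor
    · rintro ⟨x, hx, rfl⟩
      exact lifted.map x hx
    · intro ht
      obtain ⟨x, hx, h⟩ := lifted.surj t ht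
      exact ⟨x, hx, h⟩
  rw [← h1, Set.InjOn.ncard_image fun x hx y hy h => lifted.inj x hx y hy h]

theorem orderOf_pi {x : K} {r : ℕ} (hr : r.Prime) (hr2 : r ≠ 2) (hx : orderOf x = r) : orderOf (pi x) = r := by
  rcases (Nat.dvd_prime hr).1 (orderOf_dvd_of_pow_eq_one (show (pi x) ^ r = 1 by
    rw [← map_pow, ← hx, pow_orderOf_eq_one, map_one])) with h | h
  · exfalso
    rw [orderOf_eq_one_iff] at h
    rcases (pi_ker x).1 h with h1 | h1
    · rw [h1, orderOf_one] at hx
      exact hr.one_lt.ne hx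
    · have h2 : orderOf x ∣ 2 := orderOf_dvd_of_pow_eq_one (by rw [h1, pow_two, zz])
      rw [hx] at h2
      exact hr2 ((Nat.prime_dvd_prime_iff_eq hr Nat.prime_two).1 h2)
  · exact h

/-- the rank 3 structure with the orbit lengths -/
theorem exists_data : ∃ R : Rank3 Fi23 (Fi23 ⧸ K), R.t R.x0 = z0 ∧ (∀ g : Fi23, g • R.x0 = R.x0 ↔ g ∈ K) ∧
    Set.range R.t = D ∧ (MulAction.orbit K R.b).ncard = 28160 := by
  obtain ⟨Q, hQ0, hQx, hQD⟩ := exists_rank3
  have hmemK : ∀ g : Fi23, g • Q.x0 = Q.x0 ↔ g ∈ K := by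
    intro g
    rw [← Q.mem_centralizer_iff, hQ0, mem_centralizer_singleton_iff, mem_K_iff]
  refine ⟨Q, hQ0, hmemK, hQD, ?_⟩
  obtain ⟨q₁, q, -, hq⟩ := Cfsg.Agent.SporRec.Fi23Index.orbits
  rcases Q.rank3 q with h0 | ⟨h, hh, hh2⟩ | ⟨h, hh, hh2⟩
  · exfalso
    have h1 : MulAction.orbit K q = {q} := by
      ext y
      rw [Set.mem_singleton_iff]
      constructor
      · rintro ⟨k, rfl⟩
        rw [h0]
        exact (hmemK k).2 k.2
      · rintro rfl
        exact MulAction.mem_orbit_self _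
    rw [h1, Set.ncard_singleton] at hq
    norm_num at hq
  · exfalso
    have h1 : MulAction.orbit K q = MulAction.orbit K Q.c := by
      rw [MulAction.orbit_eq_iff]
      exact ⟨⟨h, (hmemK h).1 hh⟩, hh2⟩
    have h2 : Q.t '' (MulAction.orbit K Q.c) = Subtype.val '' S := by
      ext e
      constructor
      · rintro ⟨_, ⟨k, rfl⟩, rfl⟩
        have hk : (k : Fi23) • Q.x0 = Q.x0 := (hmemK k).2 k.2
        have h3 : Q.Com Q.x0 ((k : Fi23) • Q.c) := Q.com_x0_iff.2 (Or.inr ⟨k, hk, rfl⟩)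
        have h4 : Q.t ((k : Fi23) • Q.c) * z0 = z0 * Q.t ((k : Fi23) • Q.c) := by
          rw [Q.com_def, hQ0] at h3
          exact h3.symm
        refine ⟨⟨Q.t ((k : Fi23) • Q.c), (mem_K_iff _).2 h4⟩, ⟨?_, ?_⟩, rfl⟩
        · rw [← hQD]; exact ⟨_, rfl⟩
        · intro h5
          have h5 : Q.t ((k : Fi23) • Q.c) = z0 := h5
          rw [← hQ0, Q.t_inj] at h5
          apply Q.c_ne_x0
          have h6 := congrArg (fun z => (k : Fi23)⁻¹ • z) h5
          simp only [inv_smul_smul] at h6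
          rw [h6, inv_smul_eq_iff]
          exact hk.symm
      · rintro ⟨x, ⟨h3, h4⟩, rfl⟩
        have h5 : (x : Fi23) ∈ Set.range Q.t := by rw [hQD]; exact h3
        obtain ⟨y, hy⟩ := h5
        have h6 : Q.Com Q.x0 y := by
          rw [Q.com_def, hQ0, hy]
          exact ((mem_K_iff _).1 x.2).symm
        rcases Q.com_x0_iff.1 h6 with h7 | ⟨l, hl, hly⟩
        · exfalso
          apply h4
          rw [← hy, h7, hQ0]
        · exact ⟨y, ⟨⟨l, (hmemK l).1 hl⟩, hly⟩, hy⟩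
    have h3 : (MulAction.orbit K Q.c).ncard = 3510 := by
      rw [← Set.ncard_image_of_injective _ Q.t_injective, h2, Set.ncard_image_of_injective _ Subtype.val_injective,
        ncard_S]
    rw [h1, h3] at hq
    norm_num at hq
  · have h1 : MulAction.orbit K q = MulAction.orbit K Q.b := by
      rw [MulAction.orbit_eq_iff]
      exact ⟨⟨h, (hmemK h).1 hh⟩, hh2⟩
    rw [← h1, hq]

theorem card_K' : Nat.card K = 28160 * 4585351680 := by
  rw [AlphaFi23.card_K]

/-- the fixed transpositions -/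
def Fx (x : Fi23) : Set Fi23 := {d | d ∈ D ∧ x * d = d * x}

theorem fx_modEq {r : ℕ} (hr : r.Prime) {x : Fi23} (hx : x ^ r = 1) : 31671 ≡ (Fx x).ncard [MOD r] := by
  have := finite_fi23
  have h := fix_modEq hr hx (S := D) (fun s hs => conj_mem_D hs x)
  rwa [ncard_D] at h

theorem fx_conj {x y d : Fi23} (hxy : x * y = y * x) (hd : d ∈ Fx x) : y * d * y⁻¹ ∈ Fx x := by
  refine ⟨conj_mem_D hd.1 y, ?_⟩
  have h1 : x * y⁻¹ = y⁻¹ * x := by
    calc x * y⁻¹ = y⁻¹ * (y * x) * y⁻¹ := by group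
      _ = y⁻¹ * (x * y) * y⁻¹ := by rw [hxy]
      _ = y⁻¹ * x := by group
  calc x * (y * d * y⁻¹) = (x * y) * d * y⁻¹ := by group
    _ = y * (x * d) * y⁻¹ := by rw [hxy]; group
    _ = y * d * (x * y⁻¹) := by rw [hd.2]; group
    _ = y * d * y⁻¹ * x := by rw [h1]; group

theorem fx_modEq' {s : ℕ} (hs : s.Prime) {x y : Fi23} (hy : y ^ s = 1) (hxy : x * y = y * x) :
    (Fx x).ncard ≡ {d | d ∈ Fx x ∧ y * d = d * y}.ncard [MOD s] :=
  have := finite_fi23
  fix_modEq hs hy (fun _ hd => fx_conj hxy hd)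

theorem finite_set (A : Set Fi23) : A.Finite := by
  have := finite_fi23
  exact Set.toFinite A

/-- a transposition not commuting with `z0` is not fixed -/
theorem false_b {p : ℕ} (hp : p.Prime) (hpm : ¬ p ∣ 4585351680) {x e : Fi23} (hx : orderOf x = p)
    (hxz : x * z0 = z0 * x) (he : e ∈ D) (hez : e * z0 ≠ z0 * e) (hxe : x * e = e * x) : False := by
  have := finite_fi23
  have := Fact.mk hp
  obtain ⟨Q, hQ0, hmemK, hQD, horb⟩ := exists_data
  have h3 : e ∈ Set.range Q.t := by rw [hQD]; exact he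
  obtain ⟨y, hy⟩ := h3
  have h4 : ¬ Q.Com Q.x0 y := by
    rw [Q.com_def, hQ0, hy]
    exact fun h => hez h.symm
  obtain ⟨l, hl, hly⟩ := Q.not_com_x0_iff.1 h4
  refine Schreier.FiCommon.false_of_fix K Q.b horb (by norm_num) (m := 4585351680) card_K' (p := p) hpm
    ((mem_K_iff x).2 hxz) hx ((hmemK l).1 hl) ?_
  rw [hly, Q.smul_eq_iff_comm, hy]
  exact hxe

/-- the image in `Fi22` of an element commuting with `z0` -/
theorem exists_pi {x : Fi23} {r : ℕ} (hr : r.Prime) (hr2 : r ≠ 2) (hx : orderOf x = r) (hxz : x * z0 = z0 * x) :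
    ∃ k : K, (k : Fi23) = x ∧ orderOf (pi k) = r :=
  ⟨⟨x, (mem_K_iff x).2 hxz⟩, rfl, orderOf_pi hr hr2 (by rw [Subgroup.orderOf_mk]; exact hx)⟩

/-- an element of order 11 commutes with at most two transpositions -/
theorem fx_le_z0 {x : Fi23} (hx : orderOf x = 11) (hxz : x * z0 = z0 * x) : (Fx x).ncard ≤ 2 := by
  have hfin := finite_fi23
  obtain ⟨k, hk, hk11⟩ := exists_pi (r := 11) (by norm_num) (by norm_num) hx hxz
  have hp11 : (pi k) ^ 11 = 1 := by rw [← hk11, pow_orderOf_eq_one]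
  have hp1 : pi k ≠ 1 := by
    intro h
    rw [h, orderOf_one] at hk11
    norm_num at hk11
  -- at most two fixed transpositions
  have hmem : ∀ e ∈ Fx x, e ≠ z0 → ∃ e' : K, (e' : Fi23) = e ∧ e' ∈ S ∧ k * e' = e' * k := by
    intro e he hez
    by_cases h1 : e * z0 = z0 * e
    · refine ⟨⟨e, (mem_K_iff e).2 h1⟩, rfl, ⟨he.1, hez⟩, Subtype.ext ?_⟩
      show (k : Fi23) * e = e * k
      rw [hk]
      exact he.2
    · exact (false_b (p := 11) (by norm_num) (by norm_num) hx hxz he.1 h1 he.2).elim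
  have huniq : ∀ e ∈ Fx x, e ≠ z0 → ∀ f ∈ Fx x, f ≠ z0 → e = f := by
    intro e he hez f hf hfz
    obtain ⟨e', he', heS, hek⟩ := hmem e he hez
    obtain ⟨f', hf', hfS, hfk⟩ := hmem f hf hfz
    have h1 : pi e' = pi f' := by
      refine H713.Spor.Fi22.unique_eleven ctx22 hp11 hp1 ⟨lifted.map f' hfS, ?_⟩ ⟨lifted.map e' heS, ?_⟩
      · rw [← map_mul, hfk, map_mul]
      · rw [← map_mul, hek, map_mul]
    have h2 := lifted.inj e' heS f' hfS h1
    rw [← he', ← hf', h2]
  by_contra hcon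
  obtain ⟨a, b, c, ha, hb, hc, hab, hac, hbc⟩ := (Set.two_lt_ncard_iff (finite_set _)).1 (by omega : 2 < (Fx x).ncard)
  by_cases h1 : a = z0
  · exact hbc (huniq b hb (fun h => hab (h1.trans h.symm)) c hc (fun h => hac (h1.trans h.symm)))
  · by_cases h2 : b = z0
    · exact hac (huniq a ha h1 c hc (fun h => hbc (h2.trans h.symm)))
    · exact hab (huniq a ha h1 b hb h2)

theorem eleven_z0 {x y : Fi23} (hx : orderOf x = 11) (hxz : x * z0 = z0 * x) {s : ℕ} (hs : s.Prime) (h3 : 3 ≤ s)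
    (hs22 : ¬ s ∣ 22) (hy : orderOf y = s) (hxy : x * y = y * x) : False := by
  have hfin := finite_fi23
  have hz0 : z0 ∈ Fx x := ⟨z0_mem_D, hxz⟩
  obtain ⟨k, hk, hk11⟩ := exists_pi (r := 11) (by norm_num) (by norm_num) hx hxz
  have hle := fx_le_z0 hx hxz
  have hmod := fx_modEq (r := 11) (by norm_num) (x := x) (by rw [← hx, pow_orderOf_eq_one])
  have h2 : (Fx x).ncard = 2 := by
    unfold Nat.ModEq at hmod
    omega
  have hmod' := fx_modEq' hs (x := x) (y := y) (by rw [← hy, pow_orderOf_eq_one]) hxy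
  have hsub : {d | d ∈ Fx x ∧ y * d = d * y} ⊆ Fx x := fun d hd => hd.1
  have hle' := Set.ncard_le_ncard hsub (finite_set _)
  have hall : {d | d ∈ Fx x ∧ y * d = d * y} = Fx x := by
    apply Set.eq_of_subset_of_ncard_le hsub _ (finite_set _)
    rw [h2] at hmod' hle' ⊢
    unfold Nat.ModEq at hmod'
    rw [Nat.mod_eq_of_lt (by omega : 2 < s), Nat.mod_eq_of_lt (by omega : _ < s)] at hmod'
    omega
  have hyz : y * z0 = z0 * y := by
    have : z0 ∈ {d | d ∈ Fx x ∧ y * d = d * y} := by rw [hall]; exact hz0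
    exact this.2
  obtain ⟨l, hl, hls⟩ := exists_pi hs (by omega) hy hyz
  have hkl : pi k * pi l = pi l * pi k := by
    rw [← map_mul, ← map_mul]
    congr 1
    apply Subtype.ext
    show (k : Fi23) * l = l * k
    rw [hk, hl]
    exact hxy
  have hfin22 : Finite Fi22 := ctx22.finite
  apply hs22
  rw [← H713.Spor.Fi22.cent_11 (MulEquiv.refl Fi22) hk11, ← hls,
    ← Subgroup.orderOf_mk (pi l) (mem_centralizer_singleton_iff.2 hkl.symm)]
  exact orderOf_dvd_natCard _

theorem conj_z0 {x : Fi23} {d : Fi23} (hd : d ∈ Fx x) :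
    ∃ g : Fi23, (g * x * g⁻¹) * z0 = z0 * (g * x * g⁻¹) := by
  obtain ⟨c, hc⟩ := isConj_iff.1 (show IsConj z0 d from hd.1)
  refine ⟨c⁻¹, ?_⟩
  have h1 := hd.2
  rw [← hc] at h1
  calc c⁻¹ * x * c⁻¹⁻¹ * z0 = c⁻¹ * (x * (c * z0 * c⁻¹)) * c := by group
    _ = c⁻¹ * (c * z0 * c⁻¹ * x) * c := by rw [h1]
    _ = z0 * (c⁻¹ * x * c⁻¹⁻¹) := by group

theorem comm_conj {x y g : Fi23} (h : x * y = y * x) : (g * x * g⁻¹) * (g * y * g⁻¹) = (g * y * g⁻¹) * (g * x * g⁻¹) := by
  calc (g * x * g⁻¹) * (g * y * g⁻¹) = g * (x * y) * g⁻¹ := by group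
    _ = g * (y * x) * g⁻¹ := by rw [h]
    _ = _ := by group

theorem fx_le {x : Fi23} (hx : orderOf x = 11) : (Fx x).ncard ≤ 2 := by
  rcases Set.eq_empty_or_nonempty (Fx x) with h | ⟨d, hd⟩
  · rw [h, Set.ncard_empty]
    exact Nat.zero_le _
  obtain ⟨g, hg⟩ := conj_z0 hd
  refine le_of_eq_of_le ?_ (fx_le_z0 (x := g * x * g⁻¹) (by rw [← hx]; exact (MulAut.conj g).orderOf_eq x) hg)
  apply ncard_conj g
  intro e
  constructor
  · rintro ⟨h1, h2⟩
    exact ⟨conj_mem_D h1 g, comm_conj h2⟩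
  · rintro ⟨h1, h2⟩
    have h3 := conj_mem_D h1 g⁻¹
    have e1 : g⁻¹ * (g * e * g⁻¹) * g⁻¹⁻¹ = e := by group
    rw [e1] at h3
    exact ⟨h3, (conj_comm_iff g x e).1 h2⟩

theorem eleven {x y : Fi23} (hx : orderOf x = 11) {s : ℕ} (hs : s.Prime) (h3 : 3 ≤ s)
    (hs22 : ¬ s ∣ 22) (hy : orderOf y = s) (hxy : x * y = y * x) : False := by
  have hmod := fx_modEq (r := 11) (by norm_num) (x := x) (by rw [← hx, pow_orderOf_eq_one])
  have hne : (Fx x).Nonempty := by
    rw [← Set.ncard_pos (finite_set _)]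
    unfold Nat.ModEq at hmod
    omega
  obtain ⟨d, hd⟩ := hne
  obtain ⟨g, hg⟩ := conj_z0 hd
  exact eleven_z0 (x := g * x * g⁻¹) (y := g * y * g⁻¹) (by rw [← hx]; exact (MulAut.conj g).orderOf_eq x) hg hs h3 hs22
    (by rw [← hy]; exact (MulAut.conj g).orderOf_eq y) (comm_conj hxy)

/-! ### Order 13 -/

theorem cent_le {x : K} (hx : orderOf x = 13) : Nat.card (centralizer ({x} : Set K)) ≤ 26 := by
  have hfin := finite_fi23
  have hfin22 : Finite Fi22 := ctx22.finite
  have hpx := orderOf_pi (r := 13) (by norm_num) (by norm_num) hx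
  let f : centralizer ({x} : Set K) →* Fi22 := pi.comp (centralizer ({x} : Set K)).subtype
  have h1 : Nat.card (centralizer ({x} : Set K)) = Nat.card f.ker * Nat.card f.range := by
    rw [← Subgroup.index_ker, Subgroup.card_mul_index]
  have h2 : Nat.card f.range ≤ 13 := by
    rw [← H713.Spor.Fi22.cent_13 (MulEquiv.refl Fi22) hpx]
    apply Subgroup.card_le_of_le
    rintro _ ⟨y, rfl⟩
    rw [mem_centralizer_singleton_iff]
    show pi y * pi x = pi x * pi y
    rw [← map_mul, ← map_mul, mem_centralizer_singleton_iff.1 y.2]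
  have h3 : Nat.card f.ker ≤ 2 := by
    have h4 : (f.ker : Set (centralizer ({x} : Set K))).ncard ≤ 2 := by
      have h5 : ((fun y : centralizer ({x} : Set K) => (y : K)) '' (f.ker : Set (centralizer ({x} : Set K)))) ⊆ {1, zK} := by
        rintro _ ⟨y, hy, rfl⟩
        have h6 : pi (y : K) = 1 := hy
        exact (pi_ker _).1 h6
      rw [← Set.ncard_image_of_injective _ Subtype.val_injective]
      refine (Set.ncard_le_ncard h5 (Set.toFinite _)).trans ?_
      refine (Set.ncard_insert_le _ _).trans ?_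
      rw [Set.ncard_singleton]
    exact h4
  rw [h1]
  exact (Nat.mul_le_mul h3 h2)

theorem thirteen_z0 {x y : Fi23} (hx : orderOf x = 13) (hxz : x * z0 = z0 * x) {s : ℕ} (hs : s.Prime) (h17 : 17 ≤ s)
    (hsK : ¬ s ∣ 2 * 64561751654400) (hy : orderOf y = s) (hxy : x * y = y * x) : False := by
  have hfin := finite_fi23
  have hfin22 : Finite Fi22 := ctx22.finite
  have f13 : Fact (Nat.Prime 13) := ⟨by norm_num⟩
  obtain ⟨Q, hQ0, hmemK, hQD, horb⟩ := exists_data
  obtain ⟨k, hk, hk13⟩ := exists_pi (r := 13) (by norm_num) (by norm_num) hx hxz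
  have hkx : orderOf k = 13 := by rw [← Subgroup.orderOf_coe, hk, hx]
  -- the fixed points in the big orbit
  have hstab : ∀ a ∈ MulAction.orbit K Q.b, Nat.card (MulAction.stabilizer K a) = 4585351680 := by
    intro a ha
    have h1 := (MulAction.stabilizer K a).index_mul_card
    rw [MulAction.index_stabilizer, (MulAction.orbit_eq_iff.2 ha), horb, card_K'] at h1
    exact Nat.eq_of_mul_eq_mul_left (by norm_num) h1
  have hX : Finite (Fi23 ⧸ K) := inferInstance
  have hfix := fix_le (p := 13) hkx (S := MulAction.orbit K Q.b) (Set.toFinite _)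
    (fun a ha b hb => by
      obtain ⟨g, rfl⟩ := ha
      obtain ⟨h, rfl⟩ := hb
      exact ⟨h * g⁻¹, by simp [mul_smul]⟩)
    (fun a ha => by rw [hstab a ha]; norm_num) (cent_le hkx)
  set A : Set (Fi23 ⧸ K) := {a | a ∈ MulAction.orbit K Q.b ∧ k • a = a} with hA
  have hsub : Fx x ⊆ insert z0 (Q.t '' A) := by
    rintro e ⟨heD, hxe⟩
    by_cases h1 : e = z0
    · exact Or.inl h1
    right
    have h3 : e ∈ Set.range Q.t := by rw [hQD]; exact heD
    obtain ⟨a, ha⟩ := h3
    by_cases h2 : e * z0 = z0 * e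
    · exfalso
      let e' : K := ⟨e, (mem_K_iff e).2 h2⟩
      have heS : e' ∈ S := ⟨heD, h1⟩
      have h4 : pi e' * pi k = pi k * pi e' := by
        rw [← map_mul, ← map_mul]
        congr 1
        apply Subtype.ext
        show e * (k : Fi23) = k * e
        rw [hk]
        exact hxe.symm
      have h5 : orderOf (pi e') ∣ 13 := by
        rw [← H713.Spor.Fi22.cent_13 (MulEquiv.refl Fi22) hk13,
          ← Subgroup.orderOf_mk (pi e') (mem_centralizer_singleton_iff.2 h4)]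
        exact orderOf_dvd_natCard _
      have h6 : orderOf (pi e') = 2 := orderOf_eq_prime (by rw [pow_two]; exact ctx22.sq _ (lifted.map e' heS))
        (ctx22.ne1 _ (lifted.map e' heS))
      rw [h6] at h5
      norm_num at h5
    · have h4 : ¬ Q.Com Q.x0 a := by
        rw [Q.com_def, hQ0, ha]
        exact fun h => h2 h.symm
      obtain ⟨l, hl, hla⟩ := Q.not_com_x0_iff.1 h4
      refine ⟨a, ⟨⟨⟨l, (hmemK l).1 hl⟩, hla⟩, ?_⟩, ha⟩
      show (k : Fi23) • a = a
      rw [hk, Q.smul_eq_iff_comm, ha]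
      exact hxe
  have hle : (Fx x).ncard ≤ 25 := by
    refine (Set.ncard_le_ncard hsub (finite_set _)).trans ((Set.ncard_insert_le _ _).trans ?_)
    have h1 := Set.ncard_image_le (f := Q.t) (s := A) (Set.toFinite _)
    omega
  have hmod := fx_modEq (r := 13) (by norm_num) (x := x) (by rw [← hx, pow_orderOf_eq_one])
  have hmod' := fx_modEq' hs (x := x) (y := y) (by rw [← hy, pow_orderOf_eq_one]) hxy
  have hempty : {d | d ∈ Fx x ∧ y * d = d * y} = ∅ := by
    rw [Set.eq_empty_iff_forall_notMem]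
    rintro d ⟨hd, hyd⟩
    obtain ⟨g, hg⟩ := conj_z0 (x := y) (d := d) ⟨hd.1, hyd⟩
    apply hsK
    rw [← AlphaFi23.card_K, ← hy, ← (MulAut.conj g).orderOf_eq y]
    have hm : MulAut.conj g y ∈ K := (mem_K_iff _).2 hg
    rw [← Subgroup.orderOf_mk _ hm]
    exact orderOf_dvd_natCard _
  rw [hempty, Set.ncard_empty] at hmod'
  have h1 : s ∣ (Fx x).ncard := (Nat.modEq_zero_iff_dvd).1 hmod'
  unfold Nat.ModEq at hmod
  have h2 : 0 < (Fx x).ncard := by omega
  have h3 := Nat.le_of_dvd h2 h1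
  omega

theorem thirteen {x y : Fi23} (hx : orderOf x = 13) {s : ℕ} (hs : s.Prime) (h17 : 17 ≤ s)
    (hsK : ¬ s ∣ 2 * 64561751654400) (hy : orderOf y = s) (hxy : x * y = y * x) : False := by
  have hmod := fx_modEq (r := 13) (by norm_num) (x := x) (by rw [← hx, pow_orderOf_eq_one])
  have hne : (Fx x).Nonempty := by
    rw [← Set.ncard_pos (finite_set _)]
    unfold Nat.ModEq at hmod
    omega
  obtain ⟨d, hd⟩ := hne
  obtain ⟨g, hg⟩ := conj_z0 hd
  exact thirteen_z0 (x := g * x * g⁻¹) (y := g * y * g⁻¹) (by rw [← hx]; exact (MulAut.conj g).orderOf_eq x) hg hs h17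
    hsK (by rw [← hy]; exact (MulAut.conj g).orderOf_eq y) (comm_conj hxy)

theorem not_adj_11_13 : ¬ Adj Fi23 11 13 := H149.Sp.not_adj_of_not_comm (by norm_num) (by norm_num)
  fun _ _ hx hy hxy => eleven hx (s := 13) (by norm_num) (by norm_num) (by norm_num) hy hxy

theorem not_adj_11_23 : ¬ Adj Fi23 11 23 := H149.Sp.not_adj_of_not_comm (by norm_num) (by norm_num)
  fun _ _ hx hy hxy => eleven hx (s := 23) (by norm_num) (by norm_num) (by norm_num) hy hxy

theorem not_adj_11_17 : ¬ Adj Fi23 11 17 := H149.Sp.not_adj_of_not_comm (by norm_num) (by norm_num)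
  fun _ _ hx hy hxy => eleven hx (s := 17) (by norm_num) (by norm_num) (by norm_num) hy hxy

theorem not_adj_13_23 : ¬ Adj Fi23 13 23 := H149.Sp.not_adj_of_not_comm (by norm_num) (by norm_num)
  fun _ _ hx hy hxy => thirteen hx (s := 23) (by norm_num) (by norm_num) (by norm_num) hy hxy

theorem not_adj_13_17 : ¬ Adj Fi23 13 17 := H149.Sp.not_adj_of_not_comm (by norm_num) (by norm_num)
  fun _ _ hx hy hxy => thirteen hx (s := 17) (by norm_num) (by norm_num) (by norm_num) hy hxy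

end Cfsg.Agent.H163.PG.FiTT

namespace Cfsg.Agent.H163.PG

open Cfsg

universe u

theorem fi23_has3Out {S : Type u} [Group S] [Finite S] (h : Spor.IsoFi23 S) : Has3Out S := by
  have hspor : IsSporadicGroup S := by
    unfold IsSporadicGroup
    simp only [h, true_or, or_true]
  have hc := NotCT.Orders.fi23 h
  obtain ⟨e⟩ := h
  refine H149.Sp.has3Out_of_odd hspor (p := 11) (q := 13) (r := 23) (by norm_num) (by norm_num) (by norm_num)
    (by norm_num) (by norm_num) (by norm_num) (by rw [hc]; norm_num) ?_ ?_ ?_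
  · rw [adj_congr e]
    exact FiTT.not_adj_11_13
  · rw [adj_congr e]
    exact FiTT.not_adj_13_23
  · rw [adj_congr e]
    exact FiTT.not_adj_11_23

end Cfsg.Agent.H163.PG
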