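import Mathlib
import Cfsg.Agent.S2469
import Cfsg.Agent.S2474
import Cfsg.Agent.H163.PG.PslN
import Cfsg.Agent.H163.PG.Few

/-!
# `PSp_2n(q)`, `Ω_(2n+1)(q)`, `n ≥ 3`: three primes
-/

set_option autoImplicit false

namespace Cfsg.Agent.H163.PG

open Cfsg

universe u

theorem charP_of {F : Type u} [Field F] [Fintype F] {p f : ℕ} (hp : p.Prime)
    (hF : Fintype.card F = p ^ f) : CharP F p := by
  have : CharP F (ringChar F) := inferInstance
  obtain ⟨m, hp', h⟩ := FiniteField.card F (ringChar F)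
  have h1 : ringChar F = p := by
    have h2 : ringChar F ∣ p ^ f := by rw [← hF, h]; exact dvd_pow_self _ m.pos.ne'
    exact (Nat.prime_dvd_prime_iff_eq hp' hp).1 (hp'.dvd_of_dvd_pow h2)
  rwa [h1] at this

theorem exists_pf (F : Type u) [Field F] [Fintype F] : ∃ p f : ℕ, p.Prime ∧ 1 ≤ f ∧ Fintype.card F = p ^ f := by
  obtain ⟨p, f, hp, hf, hF⟩ := (isPrimePow_nat_iff _).1 (Fintype.isPrimePow_card_of_field (α := F))
  exact ⟨p, f, hp, hf, hF.symm⟩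

/-- `η` -/
def Eta (k η : ℕ) : Prop := (Odd k ∧ η = k) ∨ (Even k ∧ 2 * η = k)

theorem Eta.dvd {k η : ℕ} (h : Eta k η) : k ∣ 2 * η := by
  rcases h with ⟨-, rfl⟩ | ⟨-, h⟩
  · exact Dvd.intro_left 2 rfl
  · rw [h]

/-- three primes of `PSp_2n(q)`, pairwise non-adjacent, prime to `2 f` -/
theorem three_psp {F : Type u} [Field F] [Fintype F] {p f n : ℕ} (hp : p.Prime) (hf : 1 ≤ f)
    (hF : Fintype.card F = p ^ f) (hn : 3 ≤ n) {k1 k2 k3 η1 η2 η3 : ℕ} (h1 : 3 ≤ k1) (h2 : 3 ≤ k2) (h3 : 3 ≤ k3)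
    (E1 : Eta k1 η1) (E2 : Eta k2 η2) (E3 : Eta k3 η3) (h12 : η1 ≤ η2) (h23 : η2 ≤ η3) (h3n : η3 ≤ n)
    (hs : n < η1 + η2) (n12 : k1 ≠ k2) (n23 : k2 ≠ k3) (n13 : k1 ≠ k3)
    (hd12 : ¬ ∃ t, Odd t ∧ k2 = k1 * t) (hd23 : ¬ ∃ t, Odd t ∧ k3 = k2 * t) (hd13 : ¬ ∃ t, Odd t ∧ k3 = k1 * t)
    (e1 : ¬ (p = 2 ∧ f = 1 ∧ k1 = 6)) (e2 : ¬ (p = 2 ∧ f = 1 ∧ k2 = 6)) (e3 : ¬ (p = 2 ∧ f = 1 ∧ k3 = 6)) :
    ∃ r1 r2 r3 : ℕ, r1.Prime ∧ r2.Prime ∧ r3.Prime ∧ r1 ≠ r2 ∧ r2 ≠ r3 ∧ r1 ≠ r3 ∧ r1 ∣ Nat.card (PSp n F) ∧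
      r2 ∣ Nat.card (PSp n F) ∧ r3 ∣ Nat.card (PSp n F) ∧ ¬ Adj (PSp n F) r1 r2 ∧ ¬ Adj (PSp n F) r2 r3 ∧
      ¬ Adj (PSp n F) r1 r3 ∧ ¬ r1 ∣ 2 * f ∧ ¬ r2 ∣ 2 * f ∧ ¬ r3 ∣ 2 * f := by
  have := Fact.mk hp
  have hc := charP_of hp hF
  obtain ⟨r1, hr1, ho1, hn1, hp1, h21⟩ := exists_rk (p := p) (f := f) (k := k1) hp hf h1 e1
  obtain ⟨r2, hr2, ho2, hn2, hp2, h22⟩ := exists_rk (p := p) (f := f) (k := k2) hp hf (by omega) e2
  obtain ⟨r3, hr3, ho3, hn3, hp3, h23'⟩ := exists_rk (p := p) (f := f) (k := k3) hp hf (by omega) e3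
  rw [← hF] at ho1 ho2 ho3
  have hq : 1 ≤ Fintype.card F := Fintype.card_pos
  have d1 := dvd_psp (F := F) (n := n) (by omega) hr1 h21 (show 1 ≤ η1 by rcases E1 with ⟨-, h⟩ | ⟨-, h⟩ <;> omega)
    (by omega) (dvd_pow_sub_one_of_orderOf hq ho1 E1.dvd)
  have d2 := dvd_psp (F := F) (n := n) (by omega) hr2 h22 (show 1 ≤ η2 by rcases E2 with ⟨-, h⟩ | ⟨-, h⟩ <;> omega)
    (by omega) (dvd_pow_sub_one_of_orderOf hq ho2 E2.dvd)
  have d3 := dvd_psp (F := F) (n := n) (by omega) hr3 h23' (show 1 ≤ η3 by rcases E3 with ⟨-, h⟩ | ⟨-, h⟩ <;> omega)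
    (by omega) (dvd_pow_sub_one_of_orderOf hq ho3 E3.dvd)
  have n12 : r1 ≠ r2 := by rintro rfl; omega
  have n23 : r2 ≠ r3 := by rintro rfl; omega
  have n13 : r1 ≠ r3 := by rintro rfl; omega
  refine ⟨r1, r2, r3, hr1, hr2, hr3, n12, n23, n13, d1, d2, d3, ?_, ?_, ?_, hn1, hn2, hn3⟩
  · have h := (S2469.result (F := F) p n (by omega) (by omega) r1 r2 hr1 hr2 h21 h22 hp1 hp2 n12 d1 d2 k1 k2 η1 η2
      ho1.symm ho2.symm E1 E2 h12).2 ⟨by omega, hd12⟩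
    exact fun ⟨g, hg⟩ => h ⟨g, hg⟩
  · have h := (S2469.result (F := F) p n (by omega) (by omega) r2 r3 hr2 hr3 h22 h23' hp2 hp3 n23 d2 d3 k2 k3 η2 η3
      ho2.symm ho3.symm E2 E3 h23).2 ⟨by omega, hd23⟩
    exact fun ⟨g, hg⟩ => h ⟨g, hg⟩
  · have h := (S2469.result (F := F) p n (by omega) (by omega) r1 r3 hr1 hr3 h21 h23' hp1 hp3 n13 d1 d3 k1 k3 η1 η3
      ho1.symm ho3.symm E1 E3 (by omega)).2 ⟨by omega, hd13⟩
    exact fun ⟨g, hg⟩ => h ⟨g, hg⟩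

/-- all cases except `PSp_6(2)` -/
theorem three_psp' {F : Type u} [Field F] [Fintype F] {p f n : ℕ} (hp : p.Prime) (hf : 1 ≤ f)
    (hF : Fintype.card F = p ^ f) (hn : 3 ≤ n) (h32 : ¬ (n = 3 ∧ p = 2 ∧ f = 1)) :
    ∃ r1 r2 r3 : ℕ, r1.Prime ∧ r2.Prime ∧ r3.Prime ∧ r1 ≠ r2 ∧ r2 ≠ r3 ∧ r1 ≠ r3 ∧ r1 ∣ Nat.card (PSp n F) ∧
      r2 ∣ Nat.card (PSp n F) ∧ r3 ∣ Nat.card (PSp n F) ∧ ¬ Adj (PSp n F) r1 r2 ∧ ¬ Adj (PSp n F) r2 r3 ∧
      ¬ Adj (PSp n F) r1 r3 ∧ ¬ r1 ∣ 2 * f ∧ ¬ r2 ∣ 2 * f ∧ ¬ r3 ∣ 2 * f := by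
  have hE : ∀ m, Eta (2 * m) m := fun m => Or.inr ⟨even_two_mul m, rfl⟩
  have hO : ∀ m, Odd m → Eta m m := fun m h => Or.inl ⟨h, rfl⟩
  have key : ∀ a b : ℕ, 1 ≤ a → a < b → b < 3 * a → ¬ ∃ t, Odd t ∧ b = a * t := by
    rintro a b h1 h2 h3 ⟨t, ht, rfl⟩
    have h4 : t < 3 := by
      by_contra hcon
      have : a * 3 ≤ a * t := Nat.mul_le_mul_left a (by omega)
      omega
    interval_cases t
    · simp at ht
    · omega
    · exact absurd ht (by decide)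
  have key' : ∀ a b : ℕ, b < a → 1 ≤ b → ¬ ∃ t, Odd t ∧ b = a * t := by
    rintro a b h1 h2 ⟨t, ht, rfl⟩
    have : 1 ≤ t := ht.pos
    have : a * 1 ≤ a * t := Nat.mul_le_mul_left a this
    omega
  by_cases hn3 : n = 3
  · subst hn3
    exact three_psp hp hf hF (by omega) (k1 := 4) (k2 := 3) (k3 := 6) (η1 := 2) (η2 := 3) (η3 := 3) (by omega) (by omega)
      (by omega) (hE 2) (hO 3 (by decide)) (hE 3) (by omega) (by omega) (by omega) (by omega) (by omega) (by omega)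
      (by omega) (key' _ _ (by omega) (by omega)) (key _ _ (by omega) (by omega) (by omega))
      (key _ _ (by omega) (by omega) (by omega)) (by omega) (by omega) (by omega)
  by_cases h4 : n = 4 ∧ p = 2 ∧ f = 1
  · obtain ⟨rfl, hp2, hf1⟩ := h4
    exact three_psp hp hf hF (by omega) (k1 := 4) (k2 := 3) (k3 := 8) (η1 := 2) (η2 := 3) (η3 := 4) (by omega) (by omega)
      (by omega) (hE 2) (hO 3 (by decide)) (hE 4) (by omega) (by omega) (by omega) (by omega) (by omega) (by omega)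
      (by omega) (key' _ _ (by omega) (by omega)) (key _ _ (by omega) (by omega) (by omega))
      (key _ _ (by omega) (by omega) (by omega)) (by omega) (by omega) (by omega)
  by_cases h5 : n = 5 ∧ p = 2 ∧ f = 1
  · obtain ⟨rfl, hp2, hf1⟩ := h5
    exact three_psp hp hf hF (by omega) (k1 := 8) (k2 := 5) (k3 := 10) (η1 := 4) (η2 := 5) (η3 := 5) (by omega) (by omega)
      (by omega) (hE 4) (hO 5 (by decide)) (hE 5) (by omega) (by omega) (by omega) (by omega) (by omega) (by omega)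
      (by omega) (key' _ _ (by omega) (by omega)) (key _ _ (by omega) (by omega) (by omega))
      (key _ _ (by omega) (by omega) (by omega)) (by omega) (by omega) (by omega)
  · exact three_psp hp hf hF (by omega) (k1 := 2 * (n - 2)) (k2 := 2 * (n - 1)) (k3 := 2 * n) (η1 := n - 2)
      (η2 := n - 1) (η3 := n) (by omega) (by omega) (by omega) (hE _) (hE _) (hE _) (by omega) (by omega) (by omega)
      (by omega) (by omega) (by omega) (by omega)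
      (key _ _ (by omega) (by omega) (by omega)) (key _ _ (by omega) (by omega) (by omega))
      (key _ _ (by omega) (by omega) (by omega)) (by omega) (by omega) (by omega)

theorem goal_psp.{a, b} {F : Type a} [Field F] [Fintype F] {n : ℕ} (hn : 3 ≤ n)
    (hZ : Subgroup.center (PSp n F) = ⊥) : Goal.{a, b} (PSp n F) := by
  obtain ⟨p, f, hp, hf, hF⟩ := exists_pf F
  have : Finite (Matrix.symplecticGroup (Fin n) F) := Subtype.finite
  have : Finite (Cfsg.PSp n F) := inferInstance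
  have hO := card_out_psp hp hf hF (by omega : 2 ≤ n) (by omega) hZ
  rw [if_neg (by omega), one_mul] at hO
  by_cases h32 : n = 3 ∧ p = 2 ∧ f = 1
  · obtain ⟨rfl, rfl, rfl⟩ := h32
    rw [pow_one] at hF
    apply goal_of_primes {2, 3, 5, 7} (by decide)
    · intro r hr hd
      have h1 := of_dvd_psp (by omega) hr hd
      rw [hF] at h1
      rcases h1 with h1 | ⟨k, h1, h2, h3⟩
      · rw [(Nat.prime_dvd_prime_iff_eq hr Nat.prime_two).1 h1]; decide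
      · have h4 : r ∣ 3 * 15 * 63 := by
          interval_cases k
          · exact h3.trans (by norm_num)
          · exact h3.trans (by norm_num)
          · exact h3.trans (by norm_num)
        have h5 : r ∣ 3 ^ 4 * (5 * 7) := h4.trans (by norm_num)
        rcases hr.dvd_mul.1 h5 with h6 | h6
        · rw [(Nat.prime_dvd_prime_iff_eq hr Nat.prime_three).1 (hr.dvd_of_dvd_pow h6)]; decide
        · rcases hr.dvd_mul.1 h6 with h6 | h6
          · rw [(Nat.prime_dvd_prime_iff_eq hr Nat.prime_five).1 h6]; decide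
          · rw [(Nat.prime_dvd_prime_iff_eq hr (by norm_num)).1 h6]; decide
    · intro r hr hd
      rw [hO] at hd
      norm_num at hd
      exact absurd hd hr.one_lt.ne'
  · obtain ⟨r1, r2, r3, hr1, hr2, hr3, n12, n23, n13, d1, d2, d3, a12, a23, a13, h1, h2, h3⟩ :=
      three_psp' hp hf hF hn h32
    apply goal_of_has3Out
    have hdO : Nat.card (Cfsg.Out (PSp n F)) ∣ 2 * f := by
      rw [hO]
      exact Nat.mul_dvd_mul_right (Nat.gcd_dvd_left _ _) _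
    exact ⟨r1, r2, r3, hr1, hr2, hr3, n12, n23, n13, d1, d2, d3, a12, a23, a13, fun h => h1 (h.trans hdO),
      fun h => h2 (h.trans hdO), fun h => h3 (h.trans hdO)⟩

theorem goal_oodd.{a, b} {F : Type a} [Field F] [Fintype F] (hodd : Odd (Fintype.card F)) {n : ℕ} (hn : 3 ≤ n)
    (hZ : Subgroup.center (Cfsg.POmega F (Cfsg.quadFormOdd n F)) = ⊥) :
    Goal.{a, b} (Cfsg.POmega F (Cfsg.quadFormOdd n F)) := by
  obtain ⟨p, f, hp, hf, hF⟩ := exists_pf F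
  have hO := card_out_oodd hp hf hF hodd hn hZ
  have hp2 : p ≠ 2 := by
    rintro rfl
    rw [hF, Nat.odd_pow_iff (by omega)] at hodd
    exact absurd hodd (by decide)
  obtain ⟨r1, r2, r3, hr1, hr2, hr3, n12, n23, n13, d1, d2, d3, a12, a23, a13, h1, h2, h3⟩ :=
    three_psp' hp hf hF hn (fun h => hp2 h.2.1)
  apply goal_of_has3Out
  have hcd := card_oodd hodd hn
  have key : ∀ r s : ℕ, r.Prime → s.Prime → r ≠ s → ¬ Adj (PSp n F) r s →
      ¬ Adj (Cfsg.POmega F (Cfsg.quadFormOdd n F)) r s := by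
    intro r s hr hs hrs h ⟨g, hg⟩
    obtain ⟨g', hg'⟩ := (S2474.result hodd n hn r s hr hs hrs).1 ⟨g, hg⟩
    exact h ⟨g', hg'⟩
  exact ⟨r1, r2, r3, hr1, hr2, hr3, n12, n23, n13, by rwa [hcd], by rwa [hcd], by rwa [hcd], key _ _ hr1 hr2 n12 a12,
    key _ _ hr2 hr3 n23 a23, key _ _ hr1 hr3 n13 a13, by rwa [hO], by rwa [hO], by rwa [hO]⟩

theorem goal_psl_big.{a, b} {F : Type a} [Field F] [Fintype F] {n : ℕ} (hn : 5 ≤ n)
    (hZ : Subgroup.center (Matrix.ProjectiveSpecialLinearGroup (Fin n) F) = ⊥) :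
    Goal.{a, b} (Matrix.ProjectiveSpecialLinearGroup (Fin n) F) := goal_of_has3Out (has3Out_psl hn hZ)

end Cfsg.Agent.H163.PG
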