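import Mathlib
import Cfsg.Agent.H199.PslField
import Cfsg.Agent.H163.PG.PslAut

/-!
# Inner and inner-diagonal automorphisms of `PSL_n(q)`
-/

set_option autoImplicit false

namespace Cfsg.Agent.H163.PG

open Cfsg
open Cfsg.Agent.H199.PslAut Cfsg.Agent.H199.PslField
open Cfsg.Agent.ClassicalGeometry.AutPSL.Root
open Cfsg.Agent.ClassicalGeometry.AutPSL.Auto
open Cfsg.Agent.ClassicalGeometry.AutPSL.Main

universe u

section

variable {F : Type u} [Field F] [Fintype F] {n : ℕ}

local notation "PSLn" => Matrix.ProjectiveSpecialLinearGroup (Fin n) F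

theorem inn_le_inndiag : Inn PSLn ≤ inndiagPSL n F := by
  rw [Inn_eq, inndiag_eq]
  exact Subgroup.map_le_range _ _

/-- an element of `GL_n` whose determinant is an `n`-th power acts as an inner automorphism -/
theorem psl_inner_of_det {g : Matrix.GeneralLinearGroup (Fin n) F} {u : Fˣ}
    (hu : u ^ n = Matrix.GeneralLinearGroup.det g) : Psi n F g ∈ Inn PSLn := by
  rw [Inn_eq]
  have h1 : Matrix.GeneralLinearGroup.det ((scal n F u)⁻¹ * g) = 1 := by
    rw [map_mul, map_inv, det_scal, hu, inv_mul_cancel]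
  refine ⟨(scal n F u)⁻¹ * g, ⟨⟨(((scal n F u)⁻¹ * g : Matrix.GeneralLinearGroup (Fin n) F) : Matrix (Fin n) (Fin n) F),
    by rw [← Matrix.GeneralLinearGroup.val_det_apply, h1, Units.val_one]⟩, ?_⟩, ?_⟩
  · apply Units.ext
    rfl
  · rw [map_mul, map_inv, Psi_scal, inv_one, one_mul]

/-- `Inndiag / Inn` has exponent dividing `gcd (n, q - 1)` -/
theorem psl_pow_mem {x : MulAut PSLn} (hx : x ∈ inndiagPSL n F) :
    x ^ Nat.gcd n (Fintype.card F - 1) ∈ Inn PSLn := by
  classical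
  obtain ⟨g, rfl⟩ := mem_inndiag.1 hx
  rw [← map_pow]
  have hb := Nat.gcd_eq_gcd_ab n (Fintype.card F - 1)
  refine psl_inner_of_det (u := (Matrix.GeneralLinearGroup.det g) ^ (Nat.gcdA n (Fintype.card F - 1))) ?_
  rw [map_pow, ← zpow_natCast, ← zpow_mul, ← zpow_natCast (Matrix.GeneralLinearGroup.det g)
    (Nat.gcd n (Fintype.card F - 1)), hb, zpow_add, zpow_mul _ ((Fintype.card F - 1 : ℕ) : ℤ), zpow_natCast,
    ← Fintype.card_units, pow_card_eq_one, one_zpow, mul_one, mul_comm]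

theorem mem_of_pow_mem {G : Type*} [Group G] {I : Subgroup G} [I.Normal] {x : G} {r d : ℕ}
    (hx : x ^ r ∈ I) (hd : x ^ d ∈ I) (h : Nat.Coprime r d) : x ∈ I := by
  rw [← QuotientGroup.eq_one_iff, ← orderOf_eq_one_iff, ← Nat.dvd_one, ← h]
  refine Nat.dvd_gcd (orderOf_dvd_of_pow_eq_one ?_) (orderOf_dvd_of_pow_eq_one ?_)
  · rw [← QuotientGroup.mk_pow, QuotientGroup.eq_one_iff]; exact hx
  · rw [← QuotientGroup.mk_pow, QuotientGroup.eq_one_iff]; exact hd

theorem psl_inner_of_prime {x : MulAut PSLn} (hx : x ∈ inndiagPSL n F) {r : ℕ} (hr : r.Prime)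
    (hxr : orderOf x = r) (h : ¬ r ∣ Nat.gcd n (Fintype.card F - 1)) : x ∈ Inn PSLn :=
  mem_of_pow_mem (r := r) (by rw [← hxr, pow_orderOf_eq_one]; exact one_mem _) (psl_pow_mem hx)
    ((Nat.Prime.coprime_iff_not_dvd hr).2 h)

theorem inndiag_eq_inn (h : Nat.gcd n (Fintype.card F - 1) = 1) : inndiagPSL n F = Inn PSLn := by
  refine le_antisymm (fun x hx => ?_) inn_le_inndiag
  have := psl_pow_mem hx
  rwa [h, pow_one] at this

/-- commuting elements of `SL_n` -/
theorem adj_psl_of {r s : ℕ} (hr : r.Prime) (hs : s.Prime) (hrs : r ≠ s) {x y : Matrix.SpecialLinearGroup (Fin n) F}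
    (hx : x ^ r = 1) (hy : y ^ s = 1) (hxy : x * y = y * x) (hx1 : x ∉ Subgroup.center (Matrix.SpecialLinearGroup (Fin n) F))
    (hy1 : y ∉ Subgroup.center (Matrix.SpecialLinearGroup (Fin n) F)) : Adj PSLn r s := by
  refine adj_of_commute hr hs hrs (x := pr x) (y := pr y) ?_ ?_ ?_
  · rcases (Nat.dvd_prime hr).1 (orderOf_dvd_of_pow_eq_one (show (pr x) ^ r = 1 by rw [← map_pow, hx, map_one])) with h | h
    · exact absurd ((QuotientGroup.eq_one_iff x).1 (orderOf_eq_one_iff.1 h)) hx1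
    · exact h
  · rcases (Nat.dvd_prime hs).1 (orderOf_dvd_of_pow_eq_one (show (pr y) ^ s = 1 by rw [← map_pow, hy, map_one])) with h | h
    · exact absurd ((QuotientGroup.eq_one_iff y).1 (orderOf_eq_one_iff.1 h)) hy1
    · exact h
  · rw [← map_mul, ← map_mul, hxy]

/-- a non-scalar diagonal matrix of determinant one, as an element of `SL_n` -/
theorem exists_prime_unit {r : ℕ} (hr : r.Prime) (h : r ∣ Fintype.card F - 1) : ∃ a : Fˣ, orderOf a = r := by
  classical
  have := Fact.mk hr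
  rw [← Fintype.card_units] at h
  exact exists_prime_orderOf_dvd_card r h

end

end Cfsg.Agent.H163.PG
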