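import Mathlib
import Cfsg.Agent.S2468
import Cfsg.Agent.S2470
import Cfsg.Agent.H163.PG.PslInn
import Cfsg.Agent.H163.PG.Few

/-!
# Adjacency tools for almost simple groups with socle `PSL_n(q)`, `n ≥ 3`
-/

set_option autoImplicit false

namespace Cfsg.Agent.H163.PG

open Cfsg
open Cfsg.Agent.ClassicalGeometry.AutPSL.Auto (lift fld itr)

universe u

theorem charP_of_card {F : Type u} [Field F] [Fintype F] {p f : ℕ} (hp : p.Prime)
    (hF : Fintype.card F = p ^ f) : CharP F p := by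
  have : CharP F (ringChar F) := inferInstance
  obtain ⟨m, hp', h⟩ := FiniteField.card F (ringChar F)
  have h1 : ringChar F = p := by
    have h2 : ringChar F ∣ p ^ f := by rw [← hF, h]; exact dvd_pow_self _ m.pos.ne'
    exact (Nat.prime_dvd_prime_iff_eq hp' hp).1 (hp'.dvd_of_dvd_pow h2)
  rwa [h1] at this

theorem ne_two_of_ord {q r k : ℕ} (hk : orderOf (q : ZMod r) = k) (h2 : 2 ≤ k) : r ≠ 2 := by
  rintro rfl
  have h3 : (q : ZMod 2) = 0 ∨ (q : ZMod 2) = 1 := by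
    generalize (q : ZMod 2) = x
    revert x
    decide
  rcases h3 with h3 | h3
  · rw [h3, orderOf_zero] at hk
    omega
  · rw [h3, orderOf_one] at hk
    omega

theorem ne_char_of_ord {p f r k : ℕ} (hf : 1 ≤ f) (hr : r.Prime) (hk : orderOf ((p ^ f : ℕ) : ZMod r) = k) (h1 : 1 ≤ k) :
    r ≠ p := by
  rintro rfl
  have := Fact.mk hr
  rw [Nat.cast_pow, ZMod.natCast_self, zero_pow (by omega), orderOf_zero] at hk
  omega

section

variable {F : Type u} [Field F] [Fintype F] {n : ℕ}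

local notation "PSLn" => Matrix.ProjectiveSpecialLinearGroup (Fin n) F

theorem psl_pair_iff {p f : ℕ} (hp : p.Prime) (hf : 1 ≤ f) (hF : Fintype.card F = p ^ f) (hn : 3 ≤ n) {r s k l : ℕ}
    (hr : r.Prime) (hs : s.Prime) (hrs : r ≠ s) (hk : orderOf ((Fintype.card F : ℕ) : ZMod r) = k)
    (hl : orderOf ((Fintype.card F : ℕ) : ZMod s) = l) (h2k : 2 ≤ k) (hkl : k ≤ l) (hln : l ≤ n) :
    ¬ Adj PSLn r s ↔ (n < k + l ∧ ¬ k ∣ l) := by
  have := Fact.mk hp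
  have := charP_of_card hp hF
  rw [← S2468.result (F := F) p n (by omega) (by omega) r s hr hs (ne_two_of_ord hk h2k)
    (ne_two_of_ord hl (by omega)) (ne_char_of_ord (k := k) hf hr (by rw [← hF]; exact hk) (by omega))
    (ne_char_of_ord (k := l) hf hs (by rw [← hF]; exact hl) (by omega)) hrs (dvd_psl hr hk h2k (by omega))
    (dvd_psl hs hl (by omega) hln) k l hk.symm hl.symm h2k hkl]
  exact ⟨fun h ⟨g, hg⟩ => h ⟨g, hg⟩, fun h ⟨g, hg⟩ => h ⟨g, hg⟩⟩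

theorem psl_char_iff {p f : ℕ} (hp : p.Prime) (hF : Fintype.card F = p ^ f) (hn : 3 ≤ n) {r k : ℕ}
    (hr : r.Prime) (hr2 : r ≠ 2) (hrp : r ≠ p) (hrG : r ∣ Nat.card PSLn) (hk : orderOf ((Fintype.card F : ℕ) : ZMod r) = k) :
    ¬ Adj PSLn p r ↔ (n - 2 < k ∨ (n = 3 ∧ r = 3 ∧ 3 ∣ Fintype.card F - 1 ∧ ¬ 9 ∣ Fintype.card F - 1)) := by
  have := Fact.mk hp
  have := charP_of_card hp hF
  rw [← S2470.result (F := F) p n (by omega) (by omega) r hr hr2 hrp hrG k hk.symm, adj_comm]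
  exact ⟨fun h ⟨g, hg⟩ => h ⟨g, hg⟩, fun h ⟨g, hg⟩ => h ⟨g, hg⟩⟩

/-- field type of order `s` -/
def FldT (s : ℕ) (x : MulAut PSLn) : Prop :=
  ∃ σ : F ≃+* F, orderOf σ = s ∧ IsConjUnder (inndiagPSL n F) (lift (fld σ)) x

/-- graph-field involutions -/
def GfT (x : MulAut PSLn) : Prop :=
  ∃ σ : F ≃+* F, orderOf σ = 2 ∧ IsConjUnder (inndiagPSL n F) (lift (fld σ * itr)) x ∧ IsGraphFieldAutClassPSL x

/-- non-adjacency in `A` of an odd prime `s` and `r` -/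
theorem psl_not_adj_odd {p f : ℕ} (hp : p.Prime) (hf : 1 ≤ f) (hF : Fintype.card F = p ^ f) (hn : 3 ≤ n)
    (hZ : Subgroup.center PSLn = ⊥) (A : Subgroup (MulAut PSLn)) {s r N : ℕ} (hs : s.Prime) (hs2 : s ≠ 2)
    (hr : Ppd p N r) (hN : 1 ≤ N) (hsr : s ≠ r) (hrI : ∀ y ∈ A, orderOf y = r → y ∈ Inn PSLn)
    (hsI : ∀ y ∈ A, y ∈ inndiagPSL n F → orderOf y = s → y ∈ Inn PSLn)
    (hfk : s ∣ f → ∀ k, 2 ≤ k → k ≤ n → ¬ N ∣ (f / s) * k) (hS : ¬ Adj PSLn s r) : ¬ Adj A s r := by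
  refine not_adj hZ hs hr.prime hsr (inndiagPSL n F) inn_le_inndiag hrI (fun x hxA hx => ?_) hS
  rcases psl_types (by omega) hs hx with h | ⟨σ, hσ, hc⟩ | ⟨h, -⟩ | ⟨h, -⟩
  · exact Or.inl (hsI x hxA h hx)
  · right
    obtain ⟨h1, h2⟩ := psl_cent_field hp hf hF (by omega) (by omega) hs hx hσ hc
    intro hd
    obtain ⟨k, hk1, hk2, hk3⟩ := h2 hr hN hd
    exact hfk h1 k hk1 hk2 hk3
  · exact absurd h hs2
  · exact absurd h hs2

/-- non-adjacency in `A` of `2` and `r` -/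
theorem psl_not_adj_two {p f : ℕ} (hp : p.Prime) (hf : 1 ≤ f) (hF : Fintype.card F = p ^ f) (hn : 3 ≤ n)
    (hZ : Subgroup.center PSLn = ⊥) (A : Subgroup (MulAut PSLn)) {r N : ℕ}
    (hr : Ppd p N r) (hN : 1 ≤ N) (hr2 : r ≠ 2) (hrI : ∀ y ∈ A, orderOf y = r → y ∈ Inn PSLn)
    (hI : ∀ y ∈ A, y ∈ inndiagPSL n F → orderOf y = 2 → y ∈ Inn PSLn)
    (hγ : ∀ x ∈ A, orderOf x = 2 → ¬ IsGraphAutClassPSL x)
    (hφ : (∀ x ∈ A, orderOf x = 2 → ¬ FldT 2 x) ∨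
      (2 ∣ f → ∀ k, 2 ≤ k → k ≤ n → ¬ N ∣ (f / 2) * k))
    (hu : (∀ x ∈ A, orderOf x = 2 → ¬ GfT x) ∨
      (2 ∣ f → ∀ k, 1 ≤ k → k ≤ n → ¬ ((Odd k ∧ r ∣ (p ^ (f / 2)) ^ k + 1) ∨ (Even k ∧ r ∣ (p ^ (f / 2)) ^ k - 1))))
    (hS : ¬ Adj PSLn 2 r) : ¬ Adj A 2 r := by
  refine not_adj hZ Nat.prime_two hr.prime hr2.symm (inndiagPSL n F) inn_le_inndiag hrI (fun x hxA hx => ?_) hS
  rcases psl_types (by omega) Nat.prime_two hx with h | ⟨σ, hσ, hc⟩ | ⟨-, h⟩ | ⟨-, σ, hσ, hc, h⟩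
  · exact Or.inl (hI x hxA h hx)
  · right
    rcases hφ with hφ | hφ
    · exact absurd ⟨σ, hσ, hc⟩ (hφ x hxA hx)
    · obtain ⟨h1, h2⟩ := psl_cent_field hp hf hF (by omega) (by omega) Nat.prime_two hx hσ hc
      intro hd
      obtain ⟨k, hk1, hk2, hk3⟩ := h2 hr hN hd
      exact hφ h1 k hk1 hk2 hk3
  · exact absurd h (hγ x hxA hx)
  · right
    rcases hu with hu | hu
    · exact absurd ⟨σ, hσ, hc, h⟩ (hu x hxA hx)
    · obtain ⟨h1, h2⟩ := psl_cent_graphField hp hf hF hn hx h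
      intro hd
      obtain ⟨k, hk1, hk2, hk3⟩ := h2 hr.prime (hr.ne hN) hd
      exact hu h1.two_dvd k hk1 hk2 hk3

/-- a prime divisor of `|A|` not dividing `|S|` -/
theorem exists_outer {S : Type u} [Group S] [Finite S] (hZ : Subgroup.center S = ⊥) {A : Subgroup (MulAut S)}
    {s : ℕ} (hs : s.Prime) (hsA : s ∣ Nat.card A) (hsS : ¬ s ∣ Nat.card S) :
    (∃ x ∈ A, orderOf x = s) ∧ s ∣ Nat.card (Cfsg.Out S) := by
  have := Fact.mk hs
  constructor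
  · obtain ⟨x, hx⟩ := exists_prime_orderOf_dvd_card' (G := A) s hsA
    exact ⟨x, x.2, by rw [Subgroup.orderOf_coe, hx]⟩
  · have h1 : Nat.card A ∣ Nat.card (MulAut S) := Subgroup.card_subgroup_dvd_card A
    rw [← card_out_mul hZ] at h1
    exact (hs.dvd_mul.1 (hsA.trans h1)).resolve_right hsS

theorem not_inner_of_not_dvd {S : Type u} [Group S] (hZ : Subgroup.center S = ⊥) {x : MulAut S} {s : ℕ}
    (hx : orderOf x = s) (hsS : ¬ s ∣ Nat.card S) : x ∉ Inn S := by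
  intro h
  apply hsS
  rw [← card_inn hZ, ← hx, ← Subgroup.orderOf_mk x h]
  exact orderOf_dvd_natCard _

theorem not_adj_of_not_dvd {S : Type u} [Group S] {r s : ℕ} (h : ¬ r ∣ Nat.card S) : ¬ Adj S r s := by
  intro h1
  obtain ⟨g, hg⟩ := h1
  apply h
  exact (Dvd.intro s rfl : r ∣ r * s).trans (hg ▸ orderOf_dvd_natCard g)

end

end Cfsg.Agent.H163.PG
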