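import Mathlib
import Cfsg.Agent.H199.PslGraphField
import Cfsg.Agent.H163.PG.PslTool

/-!
# Further tools: `PSL_n(q)`
-/

set_option autoImplicit false

namespace Cfsg.Agent.H163.PG

open Cfsg
open Cfsg.Agent.H966.PSLAut
open Cfsg.Agent.ClassicalGeometry.AutPSL.Auto (lift fld itr cj itr_mul_itr)
open Cfsg.Agent.ClassicalGeometry.AutPSL.Main (injective_aux not_graph)

universe u

/-- arithmetic: a field automorphism of order at least `m` -/
theorem no_field {f s k m c n : ℕ} (hf : 1 ≤ f) (hsf : s ∣ f) (hs : m ≤ s) (hs0 : 1 ≤ s) (hk1 : 1 ≤ k) (hk : k ≤ n)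
    (h : n < m * c) : ¬ (f * c) ∣ (f / s) * k := by
  intro hd
  have hpos : 0 < (f / s) * k := Nat.mul_pos (Nat.div_pos (Nat.le_of_dvd hf hsf) (by omega)) hk1
  have h1 := Nat.le_of_dvd hpos hd
  have h2 : m * (f / s) ≤ f := (Nat.mul_le_mul_right _ hs).trans (Nat.mul_div_le f s)
  have h3 : f * (m * c) ≤ f * k := by
    calc f * (m * c) = m * (f * c) := by ring
      _ ≤ m * ((f / s) * k) := Nat.mul_le_mul_left _ h1
      _ = (m * (f / s)) * k := by ring
      _ ≤ f * k := Nat.mul_le_mul_right _ h2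
  have := Nat.le_of_mul_le_mul_left h3 hf
  omega

section

variable {F : Type u} [Field F] [Fintype F] {n : ℕ}

local notation "PSLn" => Matrix.ProjectiveSpecialLinearGroup (Fin n) F

theorem psl_inner {p f : ℕ} (hp : p.Prime) (hf : 1 ≤ f) (hF : Fintype.card F = p ^ f) (hn : 3 ≤ n)
    (hZ : Subgroup.center PSLn = ⊥) {r k : ℕ} (hr : r.Prime) (hk : orderOf ((Fintype.card F : ℕ) : ZMod r) = k)
    (h2 : 2 ≤ k) (hrf : ¬ r ∣ f) (y : MulAut PSLn) (hy : orderOf y = r) : y ∈ Inn PSLn := by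
  refine inner_of_not_dvd hr ?_ hy
  rw [card_out_psl hp hf hF hn hZ]
  intro hd
  rcases hr.dvd_mul.1 hd with h | h
  · rcases hr.dvd_mul.1 h with h | h
    · exact ne_two_of_ord hk h2 ((Nat.prime_dvd_prime_iff_eq hr Nat.prime_two).1 h)
    · exact hrf h
  · exact not_dvd_sub_one Fintype.card_pos hk h2 (h.trans (Nat.gcd_dvd_right _ _))

theorem innerDiag_mem {δ : MulAut PSLn} (h : IsInnerDiagonalAutPSL δ) : δ ∈ inndiagPSL n F :=
  Subgroup.subset_closure h

theorem innerDiag_of_mem {δ : MulAut PSLn} (h : δ ∈ inndiagPSL n F) : IsInnerDiagonalAutPSL δ := by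
  obtain ⟨A, rfl⟩ := mem_inndiag.1 h
  exact ⟨A, inner_iff.2 rfl⟩

theorem graph_iff (hn : 3 ≤ n) {x : MulAut PSLn} : IsGraphAutClassPSL x ↔ x * (lift itr)⁻¹ ∈ inndiagPSL n F := by
  constructor
  · rintro ⟨-, δ, γ, hδ, hγ, rfl⟩
    rw [invTranspose_iff.1 hγ, mul_inv_cancel_right]
    exact innerDiag_mem hδ
  · intro h
    exact ⟨hn, x * (lift itr)⁻¹, lift itr, innerDiag_of_mem h, invTranspose_iff.2 rfl, by group⟩

theorem itr_sq : (lift itr : MulAut PSLn) * lift itr = 1 := by rw [← map_mul, itr_mul_itr, map_one]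

theorem orderOf_conj_itr (hn : 3 ≤ n) (g : MulAut PSLn) : orderOf (g * lift itr * g⁻¹) = 2 := by
  rw [Cfsg.Agent.H966.Coset.orderOf_conj_eq]
  have h1 : (lift itr : MulAut PSLn) ^ 2 = 1 := by rw [pow_two]; exact itr_sq
  rcases (Nat.dvd_prime Nat.prime_two).1 (orderOf_dvd_of_pow_eq_one h1) with h2 | h2
  · exfalso
    rw [orderOf_eq_one_iff] at h2
    have : Nontrivial (Fin n) := Fin.nontrivial_iff_two_le.2 (by omega)
    apply not_graph (ι := Fin n) (F := F) (by rw [Fintype.card_fin]; exact hn) (C := 1) (σ := 1) (τ := 1)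
    rw [map_one, map_one, one_mul, one_mul, h2, map_one]
  · exact h2

/-- a field involution and a graph-field involution give a graph involution -/
theorem graph_of_field_gf (hn : 3 ≤ n) {A : Subgroup (MulAut PSLn)} (hA : Inn PSLn ≤ A)
    (hodd : Odd (Nat.gcd n (Fintype.card F - 1))) {x1 x2 : MulAut PSLn} (h1 : x1 ∈ A) (h2 : x2 ∈ A)
    (hφ : FldT 2 x1) (hu : GfT x2) : ∃ x ∈ A, orderOf x = 2 ∧ IsGraphAutClassPSL x := by
  have hD : (inndiagPSL n F).Normal := inndiag_normal (by omega)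
  obtain ⟨σ, hσ, g, hg, hx1⟩ := hφ
  obtain ⟨τ, hτ, ⟨g', hg', hx2⟩, -⟩ := hu
  obtain rfl : σ = τ := Cfsg.Agent.H199.PslGraphField.involution_unique hσ hτ
  have hσ2 : (lift (fld σ) : MulAut PSLn) * lift (fld σ) = 1 := by
    rw [← map_mul, ← map_mul, ← pow_two, ← hσ, pow_orderOf_eq_one, map_one, map_one]
  set φ : MulAut PSLn := lift (fld σ) with hφdef
  set t : MulAut PSLn := lift itr with ht
  have htt : t * t = 1 := itr_sq
  rw [map_mul] at hx2
  -- work modulo `D`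
  let q : MulAut PSLn →* MulAut PSLn ⧸ inndiagPSL n F := QuotientGroup.mk' _
  have hq1 : ∀ d, q d = 1 ↔ d ∈ inndiagPSL n F := fun d => QuotientGroup.eq_one_iff d
  have e1 : q x1 = q φ := by rw [hx1, map_mul, map_mul, map_inv, (hq1 g).2 hg, one_mul, inv_one, mul_one]
  have e2 : q x2 = q φ * q t := by
    rw [hx2, map_mul, map_mul, map_mul, map_inv, (hq1 g').2 hg', one_mul, inv_one, mul_one]
  have e3 : q (x1 * x2) = q t := by
    rw [map_mul, e1, e2, ← mul_assoc, ← map_mul, hσ2, map_one, one_mul]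
  have e4 : (x1 * x2) ^ 2 ∈ inndiagPSL n F := by
    rw [← hq1, map_pow, e3, ← map_pow, pow_two, htt, map_one]
  set k := Nat.gcd n (Fintype.card F - 1) with hk
  have e5 : q ((x1 * x2) ^ k) = q t := by
    obtain ⟨m, hm⟩ := hodd
    rw [hm, map_pow, e3, ← map_pow, pow_succ, pow_mul, pow_two, htt, one_pow, one_mul]
  obtain ⟨d, hd, hdA⟩ := exists_conj_mem (Inn PSLn) (inndiagPSL n F) A hA hodd (fun d hd => psl_pow_mem hd)
    (z := (x1 * x2) ^ k) (t := t) (A.pow_mem (A.mul_mem h1 h2) _)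
    (by
      rw [← pow_two, ← pow_mul, mul_comm, pow_mul]
      exact psl_pow_mem e4)
    (by rw [htt]; exact one_mem _)
    (by rw [← hq1, map_mul, e5, map_inv, mul_inv_cancel]) inn_le_inndiag
  refine ⟨d * t * d⁻¹, hdA, orderOf_conj_itr hn d, ?_⟩
  rw [graph_iff hn, ← hq1, map_mul, map_mul, map_mul, map_inv, map_inv, (hq1 d).2 hd, one_mul, inv_one, mul_one,
    mul_inv_cancel]

/-- if `Inndiag = Inn` all graph elements are in `A` -/
theorem graph_mem (hn : 3 ≤ n) {A : Subgroup (MulAut PSLn)} (hA : inndiagPSL n F ≤ A) {x y : MulAut PSLn}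
    (hx : x ∈ A) (hgx : IsGraphAutClassPSL x) (hgy : IsGraphAutClassPSL y) : y ∈ A := by
  have h1 := (graph_iff hn).1 hgx
  have h2 := (graph_iff hn).1 hgy
  have h3 : y = (y * (lift itr)⁻¹) * (x * (lift itr)⁻¹)⁻¹ * x := by group
  rw [h3]
  exact A.mul_mem (A.mul_mem (hA h2) (A.inv_mem (hA h1))) hx

end

end Cfsg.Agent.H163.PG
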