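import Mathlib
import Cfsg.Agent.S2476
import Cfsg.Agent.S2699
import Cfsg.Agent.H163.PG.PslTool2

/-!
# Almost simple groups with socle `PSL_3(q)`: explicit elements
-/

set_option autoImplicit false

namespace Cfsg.Agent.H163.PG

open Cfsg
open scoped Matrix
open Cfsg.Agent.H966.PSLAut
open Cfsg.Agent.H199.PslAut (Psi Psi_mem Psi_coe Psi_pr Psi_eq_one_iff)
open Cfsg.Agent.ClassicalGeometry.AutPSL.Root
open Cfsg.Agent.ClassicalGeometry.AutPSL.Auto (lift fld itr cj itr_mul_itr coe_cj lift_pr)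
open Cfsg.Agent.ClassicalGeometry.AutPSL.Main (injective_aux not_graph)

universe u

section

variable {F : Type u} [Field F]

/-- the embedding of `SL_2` in `SL_3` -/
def emb : Matrix.SpecialLinearGroup (Fin 2) F →* Matrix.SpecialLinearGroup (Fin 3) F where
  toFun B := ⟨!![B.1 0 0, B.1 0 1, 0; B.1 1 0, B.1 1 1, 0; 0, 0, 1], by
    have h := B.2
    rw [Matrix.det_fin_two] at h
    rw [Matrix.det_fin_three]
    simp only [Matrix.of_apply, Matrix.cons_val', Matrix.cons_val_zero, Matrix.cons_val_one, Matrix.cons_val]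
    linear_combination h⟩
  map_one' := by
    apply Subtype.ext
    change !![(1 : Matrix (Fin 2) (Fin 2) F) 0 0, (1 : Matrix (Fin 2) (Fin 2) F) 0 1, 0;
      (1 : Matrix (Fin 2) (Fin 2) F) 1 0, (1 : Matrix (Fin 2) (Fin 2) F) 1 1, 0; 0, 0, 1] = (1 : Matrix (Fin 3) (Fin 3) F)
    rw [Matrix.one_fin_three]
    simp
  map_mul' A B := by
    apply Subtype.ext
    change !![(A.1 * B.1) 0 0, (A.1 * B.1) 0 1, 0; (A.1 * B.1) 1 0, (A.1 * B.1) 1 1, 0; 0, 0, 1] =
      !![A.1 0 0, A.1 0 1, 0; A.1 1 0, A.1 1 1, 0; 0, 0, 1] * !![B.1 0 0, B.1 0 1, 0; B.1 1 0, B.1 1 1, 0; 0, 0, 1]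
    rw [Matrix.mul_fin_three]
    simp [Matrix.mul_apply, Fin.sum_univ_two]

theorem coe_emb (B : Matrix.SpecialLinearGroup (Fin 2) F) :
    (emb B : Matrix (Fin 3) (Fin 3) F) = !![B.1 0 0, B.1 0 1, 0; B.1 1 0, B.1 1 1, 0; 0, 0, 1] := rfl

theorem emb_injective : Function.Injective (emb (F := F)) := by
  intro A B h
  have h1 : !![A.1 0 0, A.1 0 1, 0; A.1 1 0, A.1 1 1, 0; 0, 0, 1] =
    !![B.1 0 0, B.1 0 1, 0; B.1 1 0, B.1 1 1, 0; 0, 0, (1 : F)] := congrArg Subtype.val h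
  apply Subtype.ext
  ext i j
  fin_cases i <;> fin_cases j
  · exact congrFun (congrFun h1 0) 0
  · exact congrFun (congrFun h1 0) 1
  · exact congrFun (congrFun h1 1) 0
  · exact congrFun (congrFun h1 1) 1

theorem emb_central {B : Matrix.SpecialLinearGroup (Fin 2) F}
    (h : emb B ∈ Subgroup.center (Matrix.SpecialLinearGroup (Fin 3) F)) : B = 1 := by
  rw [Matrix.SpecialLinearGroup.mem_center_iff] at h
  obtain ⟨c, -, hc⟩ := h
  rw [coe_emb] at hc
  have h1 := congrFun (congrFun hc 2) 2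
  have hc1 : c = 1 := by simpa using h1
  rw [hc1, map_one] at hc
  apply emb_injective
  apply Subtype.ext
  rw [coe_emb, map_one, Matrix.SpecialLinearGroup.coe_one]
  exact hc.symm

/-- elements of prime order of `SL_2` in `PSL_3` -/
theorem orderOf_pr_emb {B : Matrix.SpecialLinearGroup (Fin 2) F} {s : ℕ} (hs : s.Prime) (hB : orderOf B = s) :
    orderOf (pr (emb B)) = s := by
  rcases (Nat.dvd_prime hs).1 (orderOf_dvd_of_pow_eq_one (show (pr (emb B)) ^ s = 1 by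
    rw [← map_pow, ← map_pow, ← hB, pow_orderOf_eq_one, map_one, map_one])) with h | h
  · exfalso
    have h1 := emb_central ((QuotientGroup.eq_one_iff (emb B)).1 (orderOf_eq_one_iff.1 h))
    rw [h1, orderOf_one] at hB
    exact hs.one_lt.ne hB
  · exact h

/-- the symmetric matrix -/
def J3 (F : Type u) [Field F] : Matrix.GeneralLinearGroup (Fin 3) F where
  val := !![0, 1, 0; 1, 0, 0; 0, 0, 1]
  inv := !![0, 1, 0; 1, 0, 0; 0, 0, 1]
  val_inv := by rw [Matrix.mul_fin_three, Matrix.one_fin_three]; simp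
  inv_val := by rw [Matrix.mul_fin_three, Matrix.one_fin_three]; simp

theorem coe_J3 : (J3 F : Matrix (Fin 3) (Fin 3) F) = !![0, 1, 0; 1, 0, 0; 0, 0, 1] := rfl

theorem coe_J3_inv : (((J3 F)⁻¹ : Matrix.GeneralLinearGroup (Fin 3) F) : Matrix (Fin 3) (Fin 3) F) =
    !![0, 1, 0; 1, 0, 0; 0, 0, 1] := rfl

theorem J3_T : (!![0, 1, 0; 1, 0, 0; 0, 0, 1] : Matrix (Fin 3) (Fin 3) F)ᵀ = !![0, 1, 0; 1, 0, 0; 0, 0, 1] := by
  ext i j
  fin_cases i <;> fin_cases j <;> rfl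

/-- the graph involution -/
noncomputable def gam3 (F : Type u) [Field F] : MulAut (Matrix.ProjectiveSpecialLinearGroup (Fin 3) F) :=
  lift (cj (J3 F) * itr)

theorem gam3_graph : IsGraphAutClassPSL (gam3 F) := by
  refine ⟨le_rfl, lift (cj (J3 F)), lift itr, ⟨J3 F, inner_iff.2 rfl⟩, invTranspose_iff.2 rfl, ?_⟩
  rw [gam3, map_mul]

theorem ctr_J3 : ctr (J3 F) = J3 F := by
  apply Units.ext
  rw [coe_ctr, coe_J3_inv, coe_J3, J3_T]

theorem J3_sq : J3 F * J3 F = 1 := by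
  apply Units.ext
  rw [Units.val_mul, coe_J3, Matrix.mul_fin_three, Units.val_one, Matrix.one_fin_three]
  simp

theorem gam3_sq : gam3 F * gam3 F = 1 := by
  rw [gam3, ← map_mul, mul_assoc, ← mul_assoc itr, itr_mul_cj, ctr_J3, mul_assoc (cj (J3 F)) itr itr, itr_mul_itr,
    mul_one, ← map_mul, J3_sq, map_one, map_one]

theorem orderOf_gam3 [Fintype F] : orderOf (gam3 F) = 2 := by
  have h1 : (gam3 F) ^ 2 = 1 := by rw [pow_two]; exact gam3_sq
  rcases (Nat.dvd_prime Nat.prime_two).1 (orderOf_dvd_of_pow_eq_one h1) with h2 | h2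
  · exfalso
    rw [orderOf_eq_one_iff] at h2
    apply not_graph (ι := Fin 3) (F := F) (by rw [Fintype.card_fin]) (C := J3 F) (σ := 1) (τ := 1)
    rw [map_one, mul_one, map_one]
    exact h2
  · exact h2

/-- `gam3` fixes the image of `SL_2` in characteristic two -/
theorem gam3_emb (h2 : (2 : F) = 0) (B : Matrix.SpecialLinearGroup (Fin 2) F) : gam3 F (pr (emb B)) = pr (emb B) := by
  have hdet : B.1 0 0 * B.1 1 1 - B.1 0 1 * B.1 1 0 = 1 := by
    rw [← Matrix.det_fin_two]; exact B.2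
  rw [gam3, lift_pr]
  congr 1
  apply Subtype.ext
  change (J3 F : Matrix (Fin 3) (Fin 3) F) * ((((emb B)⁻¹ : Matrix.SpecialLinearGroup (Fin 3) F) : Matrix (Fin 3) (Fin 3) F)ᵀ) *
    (((J3 F)⁻¹ : Matrix.GeneralLinearGroup (Fin 3) F) : Matrix (Fin 3) (Fin 3) F) = (emb B : Matrix (Fin 3) (Fin 3) F)
  -- `J (Y⁻¹)ᵀ J⁻¹ = Y`  from `Y J Yᵀ = J`
  have key : (emb B : Matrix (Fin 3) (Fin 3) F) * (J3 F : Matrix (Fin 3) (Fin 3) F) * (emb B : Matrix (Fin 3) (Fin 3) F)ᵀ =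
      (J3 F : Matrix (Fin 3) (Fin 3) F) := by
    rw [coe_emb, coe_J3]
    ext i j
    have h11 : B.1 0 0 * B.1 0 1 + B.1 0 1 * B.1 0 0 = 0 := by linear_combination (B.1 0 0 * B.1 0 1) * h2
    have h22 : B.1 1 0 * B.1 1 1 + B.1 1 1 * B.1 1 0 = 0 := by linear_combination (B.1 1 0 * B.1 1 1) * h2
    have h12 : B.1 0 1 * B.1 1 0 + B.1 0 0 * B.1 1 1 = 1 := by
      linear_combination hdet + (B.1 0 1 * B.1 1 0) * h2
    have h21 : B.1 1 1 * B.1 0 0 + B.1 1 0 * B.1 0 1 = 1 := by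
      linear_combination hdet + (B.1 0 1 * B.1 1 0) * h2
    fin_cases i <;> fin_cases j <;>
      simp [Matrix.mul_apply, Fin.sum_univ_three, Matrix.transpose_apply] <;>
      first
      | linear_combination h11
      | linear_combination h22
      | linear_combination h12
      | linear_combination h21
  have hY : (emb B : Matrix (Fin 3) (Fin 3) F)ᵀ * (((emb B)⁻¹ : Matrix.SpecialLinearGroup (Fin 3) F) : Matrix (Fin 3) (Fin 3) F)ᵀ = 1 := by
    rw [← Matrix.transpose_mul, ← Matrix.SpecialLinearGroup.coe_mul, inv_mul_cancel, Matrix.SpecialLinearGroup.coe_one,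
      Matrix.transpose_one]
  have h3 : (J3 F : Matrix (Fin 3) (Fin 3) F) * (((emb B)⁻¹ : Matrix.SpecialLinearGroup (Fin 3) F) : Matrix (Fin 3) (Fin 3) F)ᵀ =
      (emb B : Matrix (Fin 3) (Fin 3) F) * (J3 F : Matrix (Fin 3) (Fin 3) F) := by
    conv_lhs => rw [← key]
    rw [Matrix.mul_assoc, hY, Matrix.mul_one]
  rw [h3, Matrix.mul_assoc, ← Units.val_mul, mul_inv_cancel, Units.val_one, Matrix.mul_one]

end

section

variable {F : Type u} [Field F] [Fintype F]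

local notation "P3" => Matrix.ProjectiveSpecialLinearGroup (Fin 3) F

/-- `2 ~ s` for `s ∣ |SL_2(q)|` in the presence of a graph involution, `q` even -/
theorem adj_two_psl3 (h2 : (2 : F) = 0) {p f : ℕ} (hp : p.Prime) (hf : 1 ≤ f) (hF : Fintype.card F = p ^ f)
    (hZ : Subgroup.center P3 = ⊥) {A : Subgroup (MulAut P3)} (hA : Inn P3 ≤ A) {x : MulAut P3}
    (hxA : x ∈ A) (hx2 : orderOf x = 2) (hx : IsGraphAutClassPSL x) {s : ℕ} (hs : s.Prime) (hs2 : s ≠ 2)
    (hd : s ∣ Nat.card (Matrix.SpecialLinearGroup (Fin 2) F)) : Adj A 2 s := by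
  classical
  have := Fact.mk hs
  have := Fact.mk hp
  obtain ⟨-, h, hh, hx'⟩ := S2699.result (F := F) hF hf (n := 3) le_rfl (m := 1) rfl (gam3 F) x gam3_graph orderOf_gam3
    hx hx2
  obtain ⟨B, hB⟩ := exists_prime_orderOf_dvd_card' (G := Matrix.SpecialLinearGroup (Fin 2) F) s hd
  set y0 : MulAut P3 := MulAut.conj (pr (emb B)) with hy0
  have hcomm : gam3 F * y0 = y0 * gam3 F := by
    apply MulEquiv.ext
    intro g
    change gam3 F (pr (emb B) * g * (pr (emb B))⁻¹) = pr (emb B) * gam3 F g * (pr (emb B))⁻¹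
    rw [map_mul, map_mul, map_inv, gam3_emb h2]
  have ho : orderOf y0 = s := by
    rw [hy0, orderOf_injective _ (conj_injective hZ), orderOf_pr_emb hs hB]
  have hyI : h * y0 * h⁻¹ ∈ Inn P3 := (inferInstance : (Inn P3).Normal).conj_mem _ ⟨_, rfl⟩ h
  refine adj_of_commute Nat.prime_two hs hs2.symm (x := (⟨x, hxA⟩ : A)) (y := ⟨h * y0 * h⁻¹, hA hyI⟩) ?_ ?_ ?_
  · rw [Subgroup.orderOf_mk]; exact hx2
  · rw [Subgroup.orderOf_mk, Cfsg.Agent.H966.Coset.orderOf_conj_eq]; exact ho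
  · apply Subtype.ext
    change x * (h * y0 * h⁻¹) = h * y0 * h⁻¹ * x
    rw [hx']
    calc h * gam3 F * h⁻¹ * (h * y0 * h⁻¹) = h * (gam3 F * y0) * h⁻¹ := by group
      _ = h * y0 * h⁻¹ * (h * gam3 F * h⁻¹) := by rw [hcomm]; group

/-- the matrix `diag (a, a, 1)` -/
def dia (a : Fˣ) : Matrix.GeneralLinearGroup (Fin 3) F where
  val := !![(a : F), 0, 0; 0, (a : F), 0; 0, 0, 1]
  inv := !![((a⁻¹ : Fˣ) : F), 0, 0; 0, ((a⁻¹ : Fˣ) : F), 0; 0, 0, 1]
  val_inv := by rw [Matrix.mul_fin_three, Matrix.one_fin_three]; simp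
  inv_val := by rw [Matrix.mul_fin_three, Matrix.one_fin_three]; simp

theorem dia_mul (a b : Fˣ) : dia (a * b) = dia a * dia b := by
  apply Units.ext
  rw [Units.val_mul]
  change !![((a * b : Fˣ) : F), 0, 0; 0, ((a * b : Fˣ) : F), 0; 0, 0, 1] =
    !![(a : F), 0, 0; 0, (a : F), 0; 0, 0, 1] * !![(b : F), 0, 0; 0, (b : F), 0; 0, 0, 1]
  rw [Matrix.mul_fin_three]
  simp

theorem dia_one : dia (1 : Fˣ) = 1 := by
  apply Units.ext
  change !![((1 : Fˣ) : F), 0, 0; 0, ((1 : Fˣ) : F), 0; 0, 0, 1] = (1 : Matrix (Fin 3) (Fin 3) F)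
  rw [Matrix.one_fin_three, Units.val_one]

theorem dia_pow (a : Fˣ) (k : ℕ) : dia a ^ k = dia (a ^ k) := by
  induction k with
  | zero => rw [pow_zero, pow_zero, dia_one]
  | succ k ih => rw [pow_succ, pow_succ, ih, dia_mul]

/-- `r ∣ q - 1`, `s ∣ |SL_2(q)|`, `Inndiag ≤ A` : adjacent -/
theorem adj_of_inndiag (hZ : Subgroup.center P3 = ⊥) {A : Subgroup (MulAut P3)} (hA : Inn P3 ≤ A)
    (hDA : inndiagPSL 3 F ≤ A) {r s : ℕ} (hr : r.Prime) (hs : s.Prime) (hrs : r ≠ s) (h1 : r ∣ Fintype.card F - 1)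
    (hd : s ∣ Nat.card (Matrix.SpecialLinearGroup (Fin 2) F)) : Adj A r s := by
  classical
  have := Fact.mk hs
  obtain ⟨a, ha⟩ := exists_prime_unit (F := F) hr h1
  obtain ⟨B, hB⟩ := exists_prime_orderOf_dvd_card' (G := Matrix.SpecialLinearGroup (Fin 2) F) s hd
  have ho1 : orderOf (Psi 3 F (dia a)) = r := by
    rcases (Nat.dvd_prime hr).1 (orderOf_dvd_of_pow_eq_one (show (Psi 3 F (dia a)) ^ r = 1 by
      rw [← map_pow, dia_pow, ← ha, pow_orderOf_eq_one, dia_one, map_one])) with h | h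
    · exfalso
      obtain ⟨u, hu⟩ := (Psi_eq_one_iff (by norm_num)).1 (orderOf_eq_one_iff.1 h)
      have e1 := congrArg (fun M : Matrix.GeneralLinearGroup (Fin 3) F => (M : Matrix (Fin 3) (Fin 3) F) 0 0) hu
      have e2 := congrArg (fun M : Matrix.GeneralLinearGroup (Fin 3) F => (M : Matrix (Fin 3) (Fin 3) F) 2 2) hu
      simp only [Cfsg.Agent.H199.PslAut.coe_scal, Matrix.scalar_apply, Matrix.diagonal_apply_eq] at e1 e2
      have e3 : (dia a : Matrix (Fin 3) (Fin 3) F) 0 0 = (a : F) := rfl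
      have e4 : (dia a : Matrix (Fin 3) (Fin 3) F) 2 2 = 1 := rfl
      rw [e3] at e1
      rw [e4] at e2
      have : a = 1 := Units.ext (by rw [Units.val_one]; exact e1.trans e2.symm)
      rw [this, orderOf_one] at ha
      exact hr.one_lt.ne ha
    · exact h
  have ho2 : orderOf (MulAut.conj (pr (emb B)) : MulAut P3) = s := by
    rw [orderOf_injective _ (conj_injective hZ), orderOf_pr_emb hs hB]
  refine adj_of_commute hr hs hrs (x := (⟨Psi 3 F (dia a), hDA (Psi_mem _)⟩ : A))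
    (y := ⟨MulAut.conj (pr (emb B)), hA ⟨_, rfl⟩⟩) ?_ ?_ ?_
  · rw [Subgroup.orderOf_mk]; exact ho1
  · rw [Subgroup.orderOf_mk]; exact ho2
  · apply Subtype.ext
    change Psi 3 F (dia a) * MulAut.conj (pr (emb B)) = MulAut.conj (pr (emb B)) * Psi 3 F (dia a)
    rw [← Psi_coe, ← map_mul, ← map_mul]
    congr 1
    apply Units.ext
    rw [Units.val_mul, Units.val_mul]
    change !![(a : F), 0, 0; 0, (a : F), 0; 0, 0, 1] * !![B.1 0 0, B.1 0 1, 0; B.1 1 0, B.1 1 1, 0; 0, 0, 1] =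
      !![B.1 0 0, B.1 0 1, 0; B.1 1 0, B.1 1 1, 0; 0, 0, 1] * !![(a : F), 0, 0; 0, (a : F), 0; 0, 0, 1]
    rw [Matrix.mul_fin_three, Matrix.mul_fin_three]
    simp [mul_comm]

end

end Cfsg.Agent.H163.PG
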