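import Mathlib
import Cfsg.Agent.S2701
import Cfsg.Agent.H163.PG.PslTool

/-!
# Almost simple groups with socle `PSL_4(q)`
-/

set_option autoImplicit false

namespace Cfsg.Agent.H163.PG

open Cfsg
open Cfsg.Agent.S2468 (reidx reidx_injective)
open Cfsg.Agent.ClassicalGeometry.AutPSL.Auto (lift fld itr cj)

universe u

section

variable {F : Type u} [Field F] [Fintype F]

theorem not_central_reidx {n : ℕ} {m : Type} [Fintype m] [DecidableEq m] (e : m ≃ Fin n) {x : Matrix.SpecialLinearGroup m F}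
    (hx : x ∉ Subgroup.center (Matrix.SpecialLinearGroup m F)) :
    reidx e x ∉ Subgroup.center (Matrix.SpecialLinearGroup (Fin n) F) := by
  intro h
  apply hx
  rw [Subgroup.mem_center_iff] at h ⊢
  intro g
  apply reidx_injective e
  rw [map_mul, map_mul]
  exact h _

/-- `r ∣ q - 1`, `s ∣ |SL_m(q)|` : adjacent in `PSL_{m+1}(q)` when `r` does not divide `m + 1` -/
theorem adj_psl_block {m r s : ℕ} (hm : 1 ≤ m) (hr : r.Prime) (hs : s.Prime) (hrs : r ≠ s) (hrm : ¬ r ∣ m + 1)
    (h1 : r ∣ Fintype.card F - 1) (h2 : s ∣ Nat.card (Matrix.SpecialLinearGroup (Fin m) F)) :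
    Adj (Matrix.ProjectiveSpecialLinearGroup (Fin (m + 1)) F) r s := by
  classical
  have := Fact.mk hs
  obtain ⟨a, ha⟩ := exists_prime_unit (F := F) hr h1
  obtain ⟨y, hy⟩ := exists_prime_orderOf_dvd_card' (G := Matrix.SpecialLinearGroup (Fin m) F) s h2
  have i0 : Fin m := ⟨0, hm⟩
  -- the two elements
  let X : Matrix.SpecialLinearGroup (Fin m ⊕ Fin 1) F :=
    ⟨Matrix.fromBlocks (Matrix.scalar (Fin m) (a : F)) 0 0 (Matrix.scalar (Fin 1) (((a ^ m)⁻¹ : Fˣ) : F)), by
      rw [Matrix.det_fromBlocks_zero₂₁, Matrix.scalar_apply, Matrix.scalar_apply, Matrix.det_diagonal,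
        Matrix.det_diagonal, Finset.prod_const, Finset.prod_const, Finset.card_univ, Finset.card_univ,
        Fintype.card_fin, Fintype.card_fin, pow_one, ← Units.val_pow_eq_pow_val, ← Units.val_mul, mul_inv_cancel,
        Units.val_one]⟩
  let Y : Matrix.SpecialLinearGroup (Fin m ⊕ Fin 1) F := S2468.blk2 m 1 (y, 1)
  have hXY : X * Y = Y * X := by
    apply Subtype.ext
    change Matrix.fromBlocks (Matrix.scalar (Fin m) (a : F)) 0 0 (Matrix.scalar (Fin 1) (((a ^ m)⁻¹ : Fˣ) : F)) *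
      Matrix.fromBlocks y.1 0 0 1 = Matrix.fromBlocks y.1 0 0 1 *
      Matrix.fromBlocks (Matrix.scalar (Fin m) (a : F)) 0 0 (Matrix.scalar (Fin 1) (((a ^ m)⁻¹ : Fˣ) : F))
    rw [Matrix.fromBlocks_multiply, Matrix.fromBlocks_multiply]
    simp only [Matrix.mul_zero, Matrix.zero_mul, add_zero, zero_add, Matrix.mul_one, Matrix.one_mul]
    rw [(Matrix.scalar_commute (a : F) (fun _ => Commute.all _ _) y.1).eq]
  have hXpow : ∀ k : ℕ, (X ^ k : Matrix.SpecialLinearGroup (Fin m ⊕ Fin 1) F).1 =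
      Matrix.fromBlocks (Matrix.scalar (Fin m) ((a ^ k : Fˣ) : F)) 0 0
        (Matrix.scalar (Fin 1) ((((a ^ m)⁻¹) ^ k : Fˣ) : F)) := by
    intro k
    induction k with
    | zero =>
      rw [pow_zero, pow_zero, pow_zero]
      simp
    | succ k ih =>
      rw [pow_succ, Matrix.SpecialLinearGroup.coe_mul, ih]
      change _ * Matrix.fromBlocks (Matrix.scalar (Fin m) (a : F)) 0 0 (Matrix.scalar (Fin 1) (((a ^ m)⁻¹ : Fˣ) : F)) = _
      rw [Matrix.fromBlocks_multiply]
      simp only [Matrix.mul_zero, Matrix.zero_mul, add_zero, zero_add]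
      rw [← map_mul, ← map_mul, ← Units.val_mul, ← Units.val_mul, ← pow_succ, ← pow_succ]
  have hX : X ^ r = 1 := by
    apply Subtype.ext
    rw [hXpow, inv_pow, ← pow_mul, mul_comm m r, pow_mul, ← ha, pow_orderOf_eq_one, one_pow, inv_one]
    simp
  have hY : Y ^ s = 1 := by
    change (S2468.blk2 m 1 (y, 1)) ^ s = 1
    rw [← map_pow, Prod.pow_mk, one_pow, ← hy, pow_orderOf_eq_one]
    exact map_one _
  have hXc : X ∉ Subgroup.center (Matrix.SpecialLinearGroup (Fin m ⊕ Fin 1) F) := by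
    intro h
    rw [Matrix.SpecialLinearGroup.mem_center_iff] at h
    obtain ⟨c, -, hc⟩ := h
    have e1 := congrFun (congrFun hc (Sum.inl i0)) (Sum.inl i0)
    have e2 := congrFun (congrFun hc (Sum.inr 0)) (Sum.inr 0)
    have f1 : c = (a : F) := by
      rw [Matrix.scalar_apply, Matrix.diagonal_apply_eq] at e1
      rw [e1]
      change Matrix.fromBlocks _ _ _ _ (Sum.inl i0) (Sum.inl i0) = _
      rw [Matrix.fromBlocks_apply₁₁, Matrix.scalar_apply, Matrix.diagonal_apply_eq]
    have f2 : c = (((a ^ m)⁻¹ : Fˣ) : F) := by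
      rw [Matrix.scalar_apply, Matrix.diagonal_apply_eq] at e2
      rw [e2]
      change Matrix.fromBlocks _ _ _ _ (Sum.inr 0) (Sum.inr 0) = _
      rw [Matrix.fromBlocks_apply₂₂, Matrix.scalar_apply, Matrix.diagonal_apply_eq]
    have f3 : a = (a ^ m)⁻¹ := Units.ext (f1.symm.trans f2)
    have f4 : a ^ (m + 1) = 1 := by
      rw [pow_succ]
      nth_rewrite 2 [f3]
      exact mul_inv_cancel _
    apply hrm
    rw [← ha]
    exact orderOf_dvd_of_pow_eq_one f4
  have hYc : Y ∉ Subgroup.center (Matrix.SpecialLinearGroup (Fin m ⊕ Fin 1) F) := by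
    intro h
    rw [Matrix.SpecialLinearGroup.mem_center_iff] at h
    obtain ⟨c, -, hc⟩ := h
    have hc' : Matrix.scalar (Fin m ⊕ Fin 1) c = Matrix.fromBlocks y.1 0 0 1 := hc
    have f2 : c = 1 := by
      have e2 := congrFun (congrFun hc' (Sum.inr 0)) (Sum.inr 0)
      rw [Matrix.scalar_apply, Matrix.diagonal_apply_eq, Matrix.fromBlocks_apply₂₂, Matrix.one_apply_eq] at e2
      exact e2
    rw [f2, map_one] at hc'
    have f3 : y = 1 := by
      apply Subtype.ext
      have : Matrix.fromBlocks (1 : Matrix (Fin m) (Fin m) F) 0 0 (1 : Matrix (Fin 1) (Fin 1) F) =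
        Matrix.fromBlocks y.1 0 0 1 := by rw [Matrix.fromBlocks_one]; exact hc'
      exact ((Matrix.fromBlocks_inj.1 this).1).symm
    rw [f3, orderOf_one] at hy
    exact hs.one_lt.ne hy
  exact adj_psl_of hr hs hrs (x := reidx finSumFinEquiv X) (y := reidx finSumFinEquiv Y)
    (by rw [← map_pow, hX, map_one]) (by rw [← map_pow, hY, map_one]) (by rw [← map_mul, hXY, map_mul])
    (not_central_reidx _ hXc) (not_central_reidx _ hYc)

end

end Cfsg.Agent.H163.PG
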