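import Mathlib
import Cfsg.Agent.H163.PG.PslTool2
import Cfsg.Agent.H163.PG.L4

/-!
# Almost simple groups with socle `PSL_4(q)`: the goal
-/

set_option autoImplicit false

namespace Cfsg.Agent.H163.PG

open Cfsg
open Cfsg.Agent.ClassicalGeometry.AutPSL.Auto (lift fld itr cj)

universe u

section

variable {F : Type u} [Field F] [Fintype F]

local notation "P4" => Matrix.ProjectiveSpecialLinearGroup (Fin 4) F

theorem dvd_card_sl {m : ℕ} (hm : 2 ≤ m) :
    Fintype.card F ^ m - 1 ∣ Nat.card (Matrix.SpecialLinearGroup (Fin m) F) := by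
  have hq : 2 ≤ Fintype.card F := Fintype.one_lt_card
  have h1 := S0242.result (F := F) rfl m (by omega)
  have h0 : (⟨0, by omega⟩ : Fin m) ≠ ⟨m - 1, by omega⟩ := by
    rw [Ne, Fin.mk.injEq]; omega
  have h2 : ∏ i ∈ ({⟨0, by omega⟩, ⟨m - 1, by omega⟩} : Finset (Fin m)), (Fintype.card F ^ m - Fintype.card F ^ (i : ℕ)) ∣
      ∏ i : Fin m, (Fintype.card F ^ m - Fintype.card F ^ (i : ℕ)) :=
    Finset.prod_dvd_prod_of_subset _ _ _ (Finset.subset_univ _)
  rw [Finset.prod_pair h0, ← h1] at h2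
  have h3 : Fintype.card F ^ m - Fintype.card F ^ (m - 1) = Fintype.card F ^ (m - 1) * (Fintype.card F - 1) := by
    rw [Nat.mul_sub, mul_one, ← pow_succ, Nat.sub_add_cancel (by omega)]
  change (Fintype.card F ^ m - Fintype.card F ^ 0) * (Fintype.card F ^ m - Fintype.card F ^ (m - 1)) ∣ _ at h2
  rw [h3, pow_zero, ← mul_assoc, mul_comm _ (Fintype.card F - 1)] at h2
  exact (Dvd.intro _ rfl).trans (Nat.dvd_of_mul_dvd_mul_left (by omega) h2)

theorem has3_psl4_odd {p f : ℕ} (hp : p.Prime) (hf : 1 ≤ f) (hF : Fintype.card F = p ^ f) (hp2 : p ≠ 2)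
    (hZ : Subgroup.center P4 = ⊥) {A : Subgroup (MulAut P4)} (hA : Inn P4 ≤ A) : Has3 A := by
  obtain ⟨r3, h3⟩ := Ppd.exists (p := p) (n := f * 3) hp.two_le (by omega) (fun h => hp2 h.1)
  obtain ⟨r4, h4⟩ := Ppd.exists (p := p) (n := f * 4) hp.two_le (by omega) (fun h => hp2 h.1)
  have o3 : orderOf ((Fintype.card F : ℕ) : ZMod r3) = 3 := by rw [hF]; exact h3.orderOf_pow hf
  have o4 : orderOf ((Fintype.card F : ℕ) : ZMod r4) = 4 := by rw [hF]; exact h4.orderOf_pow hf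
  have i3 : ∀ y ∈ A, orderOf y = r3 → y ∈ Inn P4 := fun y _ hy =>
    psl_inner hp hf hF (by norm_num) hZ h3.prime o3 (by norm_num) (h3.not_dvd_mul (by omega) hf) y hy
  have i4 : ∀ y ∈ A, orderOf y = r4 → y ∈ Inn P4 := fun y _ hy =>
    psl_inner hp hf hF (by norm_num) hZ h4.prime o4 (by norm_num) (h4.not_dvd_mul (by omega) hf) y hy
  have ip : ∀ y ∈ A, y ∈ inndiagPSL 4 F → orderOf y = p → y ∈ Inn P4 := fun y _ hy hyp => by
    refine psl_inner_of_prime hy hp hyp fun hd => hp2 ?_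
    have h1 : p ∣ 2 ^ 2 := hd.trans (Nat.gcd_dvd_left 4 _)
    exact (Nat.prime_dvd_prime_iff_eq hp Nat.prime_two).1 (hp.dvd_of_dvd_pow h1)
  have n34 : r3 ≠ r4 := h3.ne_of_ne h4 (by omega)
  have n3p := h3.ne (by omega)
  have n4p := h4.ne (by omega)
  have d3 := dvd_psl (F := F) (n := 4) h3.prime o3 (by norm_num) (by norm_num)
  have d4 := dvd_psl (F := F) (n := 4) h4.prime o4 (by norm_num) (by norm_num)
  have hp3 : 3 ≤ p := by
    have := hp.two_le
    omega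
  refine ⟨p, r3, r4, hp, h3.prime, h4.prime, n3p.symm, n34, n4p.symm,
    dvd_card_A hZ hA (char_dvd_psl hp hf hF (by norm_num)), dvd_card_A hZ hA d3, dvd_card_A hZ hA d4, ?_, ?_, ?_⟩
  · refine psl_not_adj_odd hp hf hF (by norm_num) hZ A hp hp2 h3 (by omega) n3p.symm i3 ip ?_ ?_
    · exact fun h k hk1 hk2 => no_field (m := 3) (n := 4) hf h hp3 hp.pos (by omega) hk2 (by norm_num)
    · exact (psl_char_iff hp hF (by norm_num) h3.prime (ne_two_of_ord o3 (by norm_num)) n3p d3 o3).2 (Or.inl (by norm_num))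
  · refine not_adj' hZ h3.prime h4.prime n34 i3 i4 ?_
    exact (psl_pair_iff hp hf hF (by norm_num) h3.prime h4.prime n34 o3 o4 (by norm_num) (by norm_num) le_rfl).2
      ⟨by norm_num, by decide⟩
  · refine psl_not_adj_odd hp hf hF (by norm_num) hZ A hp hp2 h4 (by omega) n4p.symm i4 ip ?_ ?_
    · exact fun h k hk1 hk2 => no_field (m := 3) (n := 4) hf h hp3 hp.pos (by omega) hk2 (by norm_num)
    · exact (psl_char_iff hp hF (by norm_num) h4.prime (ne_two_of_ord o4 (by norm_num)) n4p d4 o4).2 (Or.inl (by norm_num))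

theorem gcd4 {f : ℕ} (hf : 1 ≤ f) (hF : Fintype.card F = 2 ^ f) : Nat.gcd 4 (Fintype.card F - 1) = 1 := by
  have h1 : Odd (Fintype.card F - 1) := by
    rw [hF]
    have : Even (2 ^ f) := (Nat.even_pow.2 ⟨even_two, by omega⟩)
    have h2 : 1 ≤ 2 ^ f := Nat.one_le_two_pow
    exact Nat.Even.sub_odd h2 this odd_one
  have h2 : Nat.Coprime (2 ^ 2) (Fintype.card F - 1) := Nat.Coprime.pow_left 2 (Nat.coprime_two_left.2 h1)
  exact h2

/-- `3 ∣ |PSL_n(q)|`, `q` prime to `3` -/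
theorem three_dvd_sq {q : ℕ} (hq : 1 ≤ q) (h3 : ¬ 3 ∣ q) : 3 ∣ q ^ 2 - 1 := by
  have h1 : q % 3 = 1 ∨ q % 3 = 2 := by omega
  have h2 : q ^ 2 % 3 = 1 := by
    rcases h1 with h | h <;> simp [Nat.pow_mod, h]
  have h3 : 1 ≤ q ^ 2 := Nat.one_le_pow _ _ hq
  omega

theorem not_three_dvd_two_pow {f : ℕ} : ¬ 3 ∣ 2 ^ f := by
  intro h
  have := Nat.prime_three.dvd_of_dvd_pow h
  omega

theorem three_dvd_psl4 {f : ℕ} (hf : 1 ≤ f) (hF : Fintype.card F = 2 ^ f) : 3 ∣ Nat.card P4 := by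
  have h1 := card_psl (F := F) (n := 4) (by norm_num)
  rw [gcd4 hf hF, one_mul] at h1
  rw [h1]
  refine Dvd.dvd.mul_left ?_ _
  have h3 : 0 ∈ Finset.range (4 - 1) := by decide
  refine dvd_trans ?_ (Finset.dvd_prod_of_mem _ h3)
  exact three_dvd_sq Fintype.card_pos (by rw [hF]; exact not_three_dvd_two_pow)

/-- a prime `s` dividing `|A|` but not `|S|`: `{s, r3, r4}` -/
theorem has3_psl4_s {f : ℕ} (hf : 1 ≤ f) (hF : Fintype.card F = 2 ^ f)
    (hZ : Subgroup.center P4 = ⊥) {A : Subgroup (MulAut P4)} (hA : Inn P4 ≤ A) {s : ℕ} (hs : s.Prime)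
    (hsA : s ∣ Nat.card A) (hsS : ¬ s ∣ Nat.card P4) : Has3 A := by
  have hfin := finite_psl (F := F) 4
  have hp := Nat.prime_two
  have hsO := (exists_outer hZ hs hsA hsS).2
  have h2S : 2 ∣ Nat.card P4 := char_dvd_psl hp hf hF (by norm_num)
  have hs2 : s ≠ 2 := by rintro rfl; exact hsS h2S
  have hs3 : s ≠ 3 := by rintro rfl; exact hsS (three_dvd_psl4 hf hF)
  have hs5 : 5 ≤ s := by
    have := hs.two_le
    have : s ≠ 4 := by rintro rfl; exact absurd hs (by norm_num)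
    omega
  have hsf : s ∣ f := by
    rw [card_out_psl hp hf hF (by norm_num) hZ, gcd4 hf hF, mul_one] at hsO
    exact (hs.dvd_mul.1 hsO).resolve_left (fun h => hs2 ((Nat.prime_dvd_prime_iff_eq hs hp).1 h))
  have hf5 : 5 ≤ f := hs5.trans (Nat.le_of_dvd hf hsf)
  obtain ⟨r3, h3⟩ := Ppd.exists (p := 2) (n := f * 3) le_rfl (by omega) (by omega)
  obtain ⟨r4, h4⟩ := Ppd.exists (p := 2) (n := f * 4) le_rfl (by omega) (by omega)
  have o3 : orderOf ((Fintype.card F : ℕ) : ZMod r3) = 3 := by rw [hF]; exact h3.orderOf_pow hf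
  have o4 : orderOf ((Fintype.card F : ℕ) : ZMod r4) = 4 := by rw [hF]; exact h4.orderOf_pow hf
  have i3 : ∀ y ∈ A, orderOf y = r3 → y ∈ Inn P4 := fun y _ hy =>
    psl_inner hp hf hF (by norm_num) hZ h3.prime o3 (by norm_num) (h3.not_dvd_mul (by omega) hf) y hy
  have i4 : ∀ y ∈ A, orderOf y = r4 → y ∈ Inn P4 := fun y _ hy =>
    psl_inner hp hf hF (by norm_num) hZ h4.prime o4 (by norm_num) (h4.not_dvd_mul (by omega) hf) y hy
  have is : ∀ y ∈ A, y ∈ inndiagPSL 4 F → orderOf y = s → y ∈ Inn P4 := fun y _ hy _ => by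
    rwa [inndiag_eq_inn (gcd4 hf hF)] at hy
  have n34 : r3 ≠ r4 := h3.ne_of_ne h4 (by omega)
  have d3 := dvd_psl (F := F) (n := 4) h3.prime o3 (by norm_num) (by norm_num)
  have d4 := dvd_psl (F := F) (n := 4) h4.prime o4 (by norm_num) (by norm_num)
  have ns3 : s ≠ r3 := by rintro rfl; exact hsS d3
  have ns4 : s ≠ r4 := by rintro rfl; exact hsS d4
  refine ⟨s, r3, r4, hs, h3.prime, h4.prime, ns3, n34, ns4, hsA, dvd_card_A hZ hA d3, dvd_card_A hZ hA d4, ?_, ?_, ?_⟩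
  · refine psl_not_adj_odd hp hf hF (by norm_num) hZ A hs hs2 h3 (by omega) ns3 i3 is ?_ (not_adj_of_not_dvd hsS)
    exact fun h k hk1 hk2 => no_field (m := 5) (n := 4) hf h hs5 hs.pos (by omega) hk2 (by norm_num)
  · refine not_adj' hZ h3.prime h4.prime n34 i3 i4 ?_
    exact (psl_pair_iff hp hf hF (by norm_num) h3.prime h4.prime n34 o3 o4 (by norm_num) (by norm_num) le_rfl).2
      ⟨by norm_num, by decide⟩
  · refine psl_not_adj_odd hp hf hF (by norm_num) hZ A hs hs2 h4 (by omega) ns4 i4 is ?_ (not_adj_of_not_dvd hsS)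
    exact fun h k hk1 hk2 => no_field (m := 5) (n := 4) hf h hs5 hs.pos (by omega) hk2 (by norm_num)

/-- the order of `q` modulo a prime divisor of `|PSL_4(q)|` -/
theorem ord_psl4 {f : ℕ} (hF : Fintype.card F = 2 ^ f) {r : ℕ} (hr : r.Prime) (hd : r ∣ Nat.card P4) :
    r = 2 ∨ (r ≠ 2 ∧ ((orderOf ((Fintype.card F : ℕ) : ZMod r) = 1 ∧ r ∣ Fintype.card F - 1) ∨
      orderOf ((Fintype.card F : ℕ) : ZMod r) = 2 ∨ orderOf ((Fintype.card F : ℕ) : ZMod r) = 3 ∨
      orderOf ((Fintype.card F : ℕ) : ZMod r) = 4)) := by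
  by_cases hr2 : r = 2
  · exact Or.inl hr2
  right
  refine ⟨hr2, ?_⟩
  have hq : 1 ≤ Fintype.card F := Fintype.card_pos
  rcases of_dvd_psl (by norm_num) hr hd with h | ⟨k, h1, h2, h3⟩
  · rw [hF] at h
    exact absurd ((Nat.prime_dvd_prime_iff_eq hr Nat.prime_two).1 (hr.dvd_of_dvd_pow h)) hr2
  · rw [Lib.Zsigmondy.dvd_pow_sub_one_iff hq] at h3
    have h4 : orderOf ((Fintype.card F : ℕ) : ZMod r) = 1 → r ∣ Fintype.card F - 1 := by
      intro h
      have := dvd_pow_sub_one_of_orderOf hq h (m := 1) dvd_rfl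
      rwa [pow_one] at this
    have h5 := Nat.le_of_dvd (by omega) h3
    generalize orderOf ((Fintype.card F : ℕ) : ZMod r) = m at h3 h4 h5 ⊢
    have : m ≠ 0 := by
      rintro rfl
      rw [zero_dvd_iff] at h3
      omega
    have hm : m = 1 ∨ m = 2 ∨ m = 3 ∨ m = 4 := by omega
    rcases hm with rfl | rfl | rfl | rfl
    · exact Or.inl ⟨rfl, h4 rfl⟩
    · exact Or.inr (Or.inl rfl)
    · exact Or.inr (Or.inr (Or.inl rfl))
    · exact Or.inr (Or.inr (Or.inr rfl))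

theorem adj_of_psl_pair {p f n : ℕ} (hp : p.Prime) (hf : 1 ≤ f) (hF : Fintype.card F = p ^ f) (hn : 3 ≤ n) {r s k l : ℕ}
    (hr : r.Prime) (hs : s.Prime) (hrs : r ≠ s) (hk : orderOf ((Fintype.card F : ℕ) : ZMod r) = k)
    (hl : orderOf ((Fintype.card F : ℕ) : ZMod s) = l) (h2k : 2 ≤ k) (hkl : k ≤ l) (hln : l ≤ n)
    (h : k + l ≤ n ∨ k ∣ l) : Adj (Matrix.ProjectiveSpecialLinearGroup (Fin n) F) r s := by
  by_contra hcon
  have := (psl_pair_iff hp hf hF hn hr hs hrs hk hl h2k hkl hln).1 hcon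
  rcases h with h | h
  · omega
  · exact this.2 h

/-- `2` and `s ∣ q^4 - 1` : via a graph involution -/
theorem adj_two_psl4 {f : ℕ} (hf : 1 ≤ f) (hF : Fintype.card F = 2 ^ f)
    {A : Subgroup (MulAut P4)} (hA : Inn P4 ≤ A) {x : MulAut P4}
    (hxA : x ∈ A) (hx : IsGraphAutClassPSL x) {s : ℕ} (hs : s.Prime) (hs2 : s ≠ 2)
    (hd : s ∣ Fintype.card F ^ 4 - 1) : Adj A 2 s := by
  classical
  have := charP_of_card Nat.prime_two hF
  have := Fact.mk hs
  obtain ⟨γ, γ', t, -, hγ, hγ2, -, -, -, -, ⟨e⟩, -⟩ := S2701.result (F := F) (n := 4) (m := 2) le_rfl rfl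
  have hDA : inndiagPSL 4 F ≤ A := by rw [inndiag_eq_inn (gcd4 hf hF)]; exact hA
  have hγA : γ ∈ A := graph_mem (by norm_num) hDA hxA hx hγ
  have hc : s ∣ Nat.card ↥(inndiagPSL 4 F ⊓ Subgroup.centralizer {γ}) := by
    rw [Nat.card_congr e.toEquiv, S0245.result (F := F) rfl 2]
    refine Dvd.dvd.mul_left ?_ _
    have h3 : 1 ∈ Finset.range 2 := by decide
    refine dvd_trans ?_ (Finset.dvd_prod_of_mem _ h3)
    exact hd
  have hfin : Finite ↥(inndiagPSL 4 F ⊓ Subgroup.centralizer {γ}) := by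
    have : Finite (Matrix.symplecticGroup (Fin 2) F) := Subtype.finite
    exact Finite.of_equiv _ e.symm.toEquiv
  obtain ⟨y, hy⟩ := exists_prime_orderOf_dvd_card' (G := ↥(inndiagPSL 4 F ⊓ Subgroup.centralizer {γ})) s hc
  have hyD : (y : MulAut P4) ∈ A := hDA y.2.1
  have hyc : (y : MulAut P4) ∈ Subgroup.centralizer {γ} := y.2.2
  refine adj_of_commute Nat.prime_two hs hs2.symm (x := (⟨γ, hγA⟩ : A)) (y := ⟨(y : MulAut P4), hyD⟩) ?_ ?_ ?_
  · rw [Subgroup.orderOf_mk]; exact hγ2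
  · rw [Subgroup.orderOf_mk, Subgroup.orderOf_coe]; exact hy
  · apply Subtype.ext
    exact Subgroup.mem_centralizer_iff.1 hyc γ rfl

/-- the cover when a graph involution is present and `π(A) = π(S)` -/
theorem cov_psl4_graph {f : ℕ} (hf : 1 ≤ f) (hF : Fintype.card F = 2 ^ f)
    (hZ : Subgroup.center P4 = ⊥) {A : Subgroup (MulAut P4)} (hA : Inn P4 ≤ A) {x : MulAut P4}
    (hxA : x ∈ A) (hx : IsGraphAutClassPSL x) (hπ : ∀ s : ℕ, s.Prime → s ∣ Nat.card A → s ∣ Nat.card P4) : Cov A := by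
  have hq : 1 ≤ Fintype.card F := Fintype.card_pos
  have hp := Nat.prime_two
  -- adjacency of odd primes
  have a2 : ∀ r s : ℕ, r.Prime → s.Prime → r ≠ s → ∀ k l, orderOf ((Fintype.card F : ℕ) : ZMod r) = k →
      orderOf ((Fintype.card F : ℕ) : ZMod s) = l → (k = 2 ∨ k = 4) → (l = 2 ∨ l = 4) → Adj A r s := by
    intro r s hr hs hrs k l hk hl h1 h2
    apply adj_A hZ hA
    rcases Nat.le_total k l with h | h
    · refine adj_of_psl_pair hp hf hF (by norm_num) hr hs hrs hk hl (by omega) h (by omega) ?_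
      rcases h1 with rfl | rfl <;> rcases h2 with rfl | rfl <;> first | omega | exact Or.inr (by decide)
    · refine (adj_of_psl_pair hp hf hF (by norm_num) hs hr hrs.symm hl hk (by omega) h (by omega) ?_).symm
      rcases h1 with rfl | rfl <;> rcases h2 with rfl | rfl <;> first | omega | exact Or.inr (by decide)
  have a1 : ∀ r s : ℕ, r.Prime → s.Prime → r ≠ s → r ≠ 2 → r ∣ Fintype.card F - 1 →
      s ∣ Nat.card (Matrix.SpecialLinearGroup (Fin 3) F) → Adj A r s := by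
    intro r s hr hs hrs hr2 h1 h2
    apply adj_A hZ hA
    refine adj_psl_block (m := 3) (by norm_num) hr hs hrs ?_ h1 h2
    intro h
    exact hr2 ((Nat.prime_dvd_prime_iff_eq hr hp).1 (hr.dvd_of_dvd_pow (show r ∣ 2 ^ 2 from h)))
  have hqe : 2 ∣ Fintype.card F := by rw [hF]; exact dvd_pow_self 2 (by omega)
  have hodd : ∀ k : ℕ, 1 ≤ k → ¬ 2 ∣ Fintype.card F ^ k - 1 := by
    intro k hk h
    have h1 : 2 ∣ Fintype.card F ^ k := hqe.trans (dvd_pow_self _ (by omega))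
    have h2 : 1 ≤ Fintype.card F ^ k := Nat.one_le_pow _ _ hq
    omega
  have h31 : Fintype.card F - 1 ∣ Fintype.card F ^ 3 - 1 := Nat.sub_one_dvd_pow_sub_one _ _
  refine ⟨fun r => r ∣ Fintype.card F ^ 3 - 1, fun r s hr hs hrs hrA hsA hX => ?_⟩
  have hr_prime := hr
  have hrS := ord_psl4 hF hr (hπ r hr hrA)
  have hsS := ord_psl4 hF hs (hπ s hs hsA)
  by_cases hXr : r ∣ Fintype.card F ^ 3 - 1
  · have hXs : s ∣ Fintype.card F ^ 3 - 1 := hX.1 hXr
    have hr2 : r ≠ 2 := by rintro rfl; exact hodd 3 (by norm_num) hXr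
    have hs2 : s ≠ 2 := by rintro rfl; exact hodd 3 (by norm_num) hXs
    have hrm := hXr
    have hsm := hXs
    rw [Lib.Zsigmondy.dvd_pow_sub_one_iff hq] at hrm hsm
    by_cases hr1 : r ∣ Fintype.card F - 1
    · exact a1 r s hr hs hrs hr2 hr1 (hXs.trans (dvd_card_sl (by norm_num)))
    by_cases hs1 : s ∣ Fintype.card F - 1
    · exact (a1 s r hs hr hrs.symm hs2 hs1 (hXr.trans (dvd_card_sl (by norm_num)))).symm
    have h13 : ∀ t : ℕ, orderOf ((Fintype.card F : ℕ) : ZMod t) ∣ 3 → ¬ t ∣ Fintype.card F - 1 →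
        orderOf ((Fintype.card F : ℕ) : ZMod t) = 3 := by
      intro t ht h1
      rcases (Nat.dvd_prime Nat.prime_three).1 ht with h | h
      · exfalso
        apply h1
        have := dvd_pow_sub_one_of_orderOf hq h (m := 1) dvd_rfl
        rwa [pow_one] at this
      · exact h
    apply adj_A hZ hA
    exact adj_of_psl_pair hp hf hF (by norm_num) hr hs hrs (h13 r hrm hr1) (h13 s hsm hs1) (by norm_num) le_rfl
      (by norm_num) (Or.inr dvd_rfl)
  · have hXs : ¬ s ∣ Fintype.card F ^ 3 - 1 := fun h => hXr (hX.2 h)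
    have key : ∀ t : ℕ, ¬ t ∣ Fintype.card F ^ 3 - 1 →
        (t = 2 ∨ (t ≠ 2 ∧ ((orderOf ((Fintype.card F : ℕ) : ZMod t) = 1 ∧ t ∣ Fintype.card F - 1) ∨
        orderOf ((Fintype.card F : ℕ) : ZMod t) = 2 ∨ orderOf ((Fintype.card F : ℕ) : ZMod t) = 3 ∨
        orderOf ((Fintype.card F : ℕ) : ZMod t) = 4))) → t = 2 ∨ (t ≠ 2 ∧ (orderOf ((Fintype.card F : ℕ) : ZMod t) = 2 ∨
        orderOf ((Fintype.card F : ℕ) : ZMod t) = 4)) := by
      rintro t ht (h | ⟨h2, ⟨-, h⟩ | h | h | h⟩)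
      · exact Or.inl h
      · exact absurd (h.trans h31) ht
      · exact Or.inr ⟨h2, Or.inl h⟩
      · exact absurd (dvd_pow_sub_one_of_orderOf hq h dvd_rfl) ht
      · exact Or.inr ⟨h2, Or.inr h⟩
    have h4 : ∀ t : ℕ, (orderOf ((Fintype.card F : ℕ) : ZMod t) = 2 ∨ orderOf ((Fintype.card F : ℕ) : ZMod t) = 4) →
        t ∣ Fintype.card F ^ 4 - 1 := by
      rintro t (h | h)
      · exact dvd_pow_sub_one_of_orderOf hq h (by decide)
      · exact dvd_pow_sub_one_of_orderOf hq h dvd_rfl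
    rcases key r hXr hrS with rfl | ⟨hr2, hr⟩
    · rcases key s hXs hsS with rfl | ⟨hs2, hs'⟩
      · exact absurd rfl hrs
      · exact adj_two_psl4 hf hF hA hxA hx hs hs2 (h4 s hs')
    · rcases key s hXs hsS with rfl | ⟨hs2, hs'⟩
      · exact (adj_two_psl4 hf hF hA hxA hx hr_prime hr2 (h4 r hr)).symm
      · exact a2 r s hr_prime hs hrs _ _ rfl rfl hr hs'

end

end Cfsg.Agent.H163.PG
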