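import Mathlib
import Cfsg.Agent.H163.PG.PslN
import Cfsg.Agent.H163.PG.L4Goal

/-!
# Almost simple groups with socle `PSL_4(q)`: conclusion
-/

set_option autoImplicit false

namespace Cfsg.Agent.H163.PG

open Cfsg
open Cfsg.Agent.ClassicalGeometry.AutPSL.Auto (lift fld itr cj)

universe u

section

variable {F : Type u} [Field F] [Fintype F]

local notation "P4" => Matrix.ProjectiveSpecialLinearGroup (Fin 4) F

theorem not_adj_two_sl {n f : ℕ} (hF : Fintype.card F = 2 ^ f) (hn : 3 ≤ n) {r k : ℕ}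
    (hr : r.Prime) (hk : orderOf ((Fintype.card F : ℕ) : ZMod r) = k) (h2 : 2 ≤ k) (hkn : k ≤ n) (hn2 : n - 2 < k)
    (hr2 : r ≠ 2) : ¬ Adj (Matrix.ProjectiveSpecialLinearGroup (Fin n) F) 2 r :=
  (psl_char_iff Nat.prime_two hF hn hr hr2 hr2 (dvd_psl hr hk h2 hkn) hk).2 (Or.inl hn2)

/-- no graph involution, no field involution or large field: `{2, r3, r4}` -/
theorem has3_psl4_two {f : ℕ} (hf : 2 ≤ f) (hF : Fintype.card F = 2 ^ f)
    (hZ : Subgroup.center P4 = ⊥) {A : Subgroup (MulAut P4)} (hA : Inn P4 ≤ A)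
    (hγ : ∀ x ∈ A, orderOf x = 2 → ¬ IsGraphAutClassPSL x) {r3 N3 : ℕ} (h3 : Ppd 2 N3 r3) (hN3 : 1 ≤ N3)
    (o3 : orderOf ((Fintype.card F : ℕ) : ZMod r3) = 3) (hrf : ¬ r3 ∣ f)
    (hφ : (∀ x ∈ A, orderOf x = 2 → ¬ FldT 2 x) ∨ N3 = f * 3)
    (hu : (∀ x ∈ A, orderOf x = 2 → ¬ GfT x) ∨ (∀ g, f = 2 * g → orderOf ((2 ^ g : ℕ) : ZMod r3) = 3)) : Has3 A := by
  have hp := Nat.prime_two
  have hf1 : 1 ≤ f := by omega
  obtain ⟨r4, h4⟩ := Ppd.exists (p := 2) (n := f * 4) le_rfl (by omega) (by omega)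
  have o4 : orderOf ((Fintype.card F : ℕ) : ZMod r4) = 4 := by rw [hF]; exact h4.orderOf_pow hf1
  have i3 : ∀ y ∈ A, orderOf y = r3 → y ∈ Inn P4 := fun y _ hy =>
    psl_inner hp hf1 hF (by norm_num) hZ h3.prime o3 (by norm_num) hrf y hy
  have i4 : ∀ y ∈ A, orderOf y = r4 → y ∈ Inn P4 := fun y _ hy =>
    psl_inner hp hf1 hF (by norm_num) hZ h4.prime o4 (by norm_num) (h4.not_dvd_mul (by omega) hf1) y hy
  have i2 : ∀ y ∈ A, y ∈ inndiagPSL 4 F → orderOf y = 2 → y ∈ Inn P4 := fun y _ hy _ => by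
    rwa [inndiag_eq_inn (gcd4 hf1 hF)] at hy
  have n34 : r3 ≠ r4 := by
    rintro rfl
    omega
  have n32 := ne_two_of_ord o3 (by norm_num)
  have n42 := ne_two_of_ord o4 (by norm_num)
  have d3 := dvd_psl (F := F) (n := 4) h3.prime o3 (by norm_num) (by norm_num)
  have d4 := dvd_psl (F := F) (n := 4) h4.prime o4 (by norm_num) (by norm_num)
  refine ⟨2, r3, r4, hp, h3.prime, h4.prime, n32.symm, n34, n42.symm,
    dvd_card_A hZ hA (char_dvd_psl hp hf1 hF (by norm_num)), dvd_card_A hZ hA d3, dvd_card_A hZ hA d4, ?_, ?_, ?_⟩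
  · refine psl_not_adj_two hp hf1 hF (by norm_num) hZ A h3 hN3 n32 i3 i2 hγ ?_ ?_
      (not_adj_two_sl hF (by norm_num) h3.prime o3 (by norm_num) (by norm_num) (by norm_num) n32)
    · rcases hφ with h | rfl
      · exact Or.inl h
      · exact Or.inr fun h k hk1 hk2 => no_field (m := 2) (n := 4) hf1 h le_rfl (by norm_num) (by omega) hk2 (by norm_num)
    · rcases hu with h | h
      · exact Or.inl h
      · right
        intro h2 k hk1 hk2 hcon
        obtain ⟨g, rfl⟩ := h2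
        rw [Nat.mul_div_cancel_left g (by norm_num)] at hcon
        have := order_cases (Nat.one_le_two_pow) h3.prime n32 (h g rfl) hcon
        rcases this with ⟨-, h5, h6⟩ | ⟨h5, h6⟩
        · omega
        · obtain ⟨j, rfl⟩ := h5
          omega
  · refine not_adj' hZ h3.prime h4.prime n34 i3 i4 ?_
    exact (psl_pair_iff hp hf1 hF (by norm_num) h3.prime h4.prime n34 o3 o4 (by norm_num) (by norm_num) le_rfl).2
      ⟨by norm_num, by decide⟩
  · refine psl_not_adj_two hp hf1 hF (by norm_num) hZ A h4 (by omega) n42 i4 i2 hγ ?_ ?_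
      (not_adj_two_sl hF (by norm_num) h4.prime o4 (by norm_num) (by norm_num) (by norm_num) n42)
    · exact Or.inr fun h k hk1 hk2 => no_field (m := 2) (n := 4) hf1 h le_rfl (by norm_num) (by omega) hk2 (by norm_num)
    · right
      intro h2 k hk1 hk2 hcon
      obtain ⟨g, rfl⟩ := h2
      rw [Nat.mul_div_cancel_left g (by norm_num)] at hcon
      have h8 : Ppd 2 (g * 8) r4 := by
        have : 2 * g * 4 = g * 8 := by ring
        rwa [this] at h4
      have := order_cases (Nat.one_le_two_pow) h4.prime n42 (h8.orderOf_pow (by omega)) hcon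
      rcases this with ⟨h6, h5, -⟩ | ⟨-, h6⟩
      · have := Nat.le_of_dvd (by omega) h5
        have hk4 : k = 4 := by omega
        subst hk4
        exact absurd h6 (by decide)
      · have := Nat.le_of_dvd (by omega) h6
        omega

theorem orderOf_pos_of {p g r k : ℕ} (hg : 1 ≤ g) (hk : 1 ≤ k) (h : orderOf ((p ^ g : ℕ) : ZMod r) = k) :
    1 ≤ orderOf (p : ZMod r) := by
  by_contra hcon
  have h0 : orderOf (p : ZMod r) = 0 := by omega
  rw [Nat.cast_pow, orderOf_pow' _ (by omega : g ≠ 0), h0] at h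
  simp at h
  omega

theorem orderOf_sq {p g r : ℕ} (h : orderOf ((p ^ g : ℕ) : ZMod r) = 3) : orderOf ((p ^ (2 * g) : ℕ) : ZMod r) = 3 := by
  have h1 : ((p ^ (2 * g) : ℕ) : ZMod r) = ((p ^ g : ℕ) : ZMod r) ^ 2 := by
    rw [mul_comm, pow_mul]
    push_cast
    rfl
  rw [h1, Nat.Coprime.orderOf_pow (by rw [h]; decide), h]

/-- the case of `PSL_4(4)` with a field involution -/
theorem cov_psl4_four (hF : Fintype.card F = 2 ^ 2)
    (hZ : Subgroup.center P4 = ⊥) {A : Subgroup (MulAut P4)} (hA : Inn P4 ≤ A)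
    (hφ : ∃ x ∈ A, orderOf x = 2 ∧ FldT 2 x) : Cov A := by
  classical
  have hf : 1 ≤ 2 := by norm_num
  have hq : 1 ≤ Fintype.card F := Fintype.card_pos
  have hq4 : Fintype.card F = 4 := by rw [hF]; norm_num
  have hp := Nat.prime_two
  have hfin := finite_psl (F := F) 4
  have hπ : ∀ s : ℕ, s.Prime → s ∣ Nat.card A → s ∣ Nat.card P4 := by
    intro s hs hsA
    by_contra hcon
    have h1 := (exists_outer hZ hs hsA hcon).2
    rw [card_out_psl hp hf hF (by norm_num) hZ, gcd4 hf hF] at h1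
    have h2 : s ∣ 2 ^ 2 := h1
    rw [(Nat.prime_dvd_prime_iff_eq hs hp).1 (hs.dvd_of_dvd_pow h2)] at hcon
    exact hcon (char_dvd_psl hp hf hF (by norm_num))
  -- adjacency of odd primes
  have a2 : ∀ r s : ℕ, r.Prime → s.Prime → r ≠ s → ∀ k l, orderOf ((Fintype.card F : ℕ) : ZMod r) = k →
      orderOf ((Fintype.card F : ℕ) : ZMod s) = l → (k = 2 ∨ k = 4) → (l = 2 ∨ l = 4) → Adj A r s := by
    intro r s hr hs hrs k l hk hl h1 h2
    apply adj_A hZ hA
    rcases Nat.le_total k l with h | h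
    · refine adj_of_psl_pair hp hf hF (by norm_num) hr hs hrs hk hl (by omega) h (by omega) ?_
      rcases h1 with rfl | rfl <;> rcases h2 with rfl | rfl <;> omega
    · refine (adj_of_psl_pair hp hf hF (by norm_num) hs hr hrs.symm hl hk (by omega) h (by omega) ?_).symm
      rcases h1 with rfl | rfl <;> rcases h2 with rfl | rfl <;> omega
  have a1 : ∀ r s : ℕ, r.Prime → s.Prime → r ≠ s → r ≠ 2 → r ∣ Fintype.card F - 1 →
      s ∣ Nat.card (Matrix.SpecialLinearGroup (Fin 3) F) → Adj A r s := by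
    intro r s hr hs hrs hr2 h1 h2
    apply adj_A hZ hA
    refine adj_psl_block (m := 3) (by norm_num) hr hs hrs ?_ h1 h2
    intro h
    exact hr2 ((Nat.prime_dvd_prime_iff_eq hr hp).1 (hr.dvd_of_dvd_pow (show r ∣ 2 ^ 2 from h)))
  have h2sl : 2 ∣ Nat.card (Matrix.SpecialLinearGroup (Fin 3) F) :=
    (char_dvd_psl (F := F) (n := 3) hp hf hF (by norm_num)).trans (Subgroup.card_quotient_dvd_card _)
  -- `2` and `7`
  have a7 : ∀ s : ℕ, s.Prime → s ≠ 2 → orderOf ((Fintype.card F : ℕ) : ZMod s) = 3 → Adj A 2 s := by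
    intro s hs hs2 ho
    have hs7 : s = 7 := by
      have h1 := dvd_pow_sub_one_of_orderOf hq ho dvd_rfl
      rw [hq4] at h1
      have h2 : s ∣ 3 ^ 2 * 7 := h1.trans (by norm_num)
      rcases hs.dvd_mul.1 h2 with h | h
      · exfalso
        have h3 : s = 3 := (Nat.prime_dvd_prime_iff_eq hs Nat.prime_three).1 (hs.dvd_of_dvd_pow h)
        have h4 : s ∣ Fintype.card F - 1 := by rw [h3, hq4]
        exact not_dvd_sub_one hq ho (by norm_num) h4
      · exact (Nat.prime_dvd_prime_iff_eq hs (by norm_num)).1 h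
    subst hs7
    obtain ⟨x, hxA, hx2, σ, hσ, hc⟩ := hφ
    have := Fact.mk hp
    have h7 : Fact (Nat.Prime 7) := ⟨by norm_num⟩
    have hcard : Fintype.card (ZMod 2) = 2 ^ (2 / 2) := by rw [ZMod.card]; norm_num
    have hx' : IsFieldAutClassPSL x := by
      obtain ⟨h, -, hh⟩ := hc
      refine ⟨h⁻¹, σ, ?_, ?_⟩
      · rintro rfl
        have : orderOf (1 : F ≃+* F) = 2 := hσ
        rw [orderOf_one] at this
        omega
      · rw [Cfsg.Agent.H966.PSLAut.std_iff, hh]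
        group
    obtain ⟨-, ⟨e⟩, -⟩ := S2698.result (F := F) hF hf (by norm_num : 2 ≤ 4) (by norm_num) x hx' hp hx2 (ZMod 2) hcard
    have hd : 7 ∣ Nat.card ↥(inndiagPSL 4 F ⊓ Subgroup.centralizer {x}) := by
      rw [Nat.card_congr e.toEquiv, card_pgl (by norm_num)]
      refine Dvd.dvd.mul_left ?_ _
      refine dvd_psl (k := 3) (by norm_num) ?_ (by norm_num) (by norm_num)
      rw [ZMod.card]
      exact orderOf_eq_prime (p := 3) (by decide) (by decide)
    have hfin2 : Finite ↥(inndiagPSL 4 F ⊓ Subgroup.centralizer {x}) := inferInstance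
    obtain ⟨y, hy⟩ := exists_prime_orderOf_dvd_card' (G := ↥(inndiagPSL 4 F ⊓ Subgroup.centralizer {x})) 7 hd
    have hyD : (y : MulAut P4) ∈ A := hA (by rw [← inndiag_eq_inn (gcd4 hf hF)]; exact y.2.1)
    have hyc : (y : MulAut P4) ∈ Subgroup.centralizer {x} := y.2.2
    refine adj_of_commute Nat.prime_two hs hs2.symm (x := (⟨x, hxA⟩ : A)) (y := ⟨(y : MulAut P4), hyD⟩) ?_ ?_ ?_
    · rw [Subgroup.orderOf_mk]; exact hx2
    · rw [Subgroup.orderOf_mk, Subgroup.orderOf_coe]; exact hy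
    · apply Subtype.ext
      exact Subgroup.mem_centralizer_iff.1 hyc x rfl
  let X : ℕ → Prop := fun r => r ≠ 2 ∧ (orderOf ((Fintype.card F : ℕ) : ZMod r) = 2 ∨
    orderOf ((Fintype.card F : ℕ) : ZMod r) = 4)
  refine ⟨X, fun r s hr hs hrs hrA hsA hX => ?_⟩
  have hrS := ord_psl4 hF hr (hπ r hr hrA)
  have hsS := ord_psl4 hF hs (hπ s hs hsA)
  by_cases hXr : X r
  · have hXs : X s := hX.1 hXr
    exact a2 r s hr hs hrs _ _ rfl rfl hXr.2 hXs.2
  · have hXs : ¬ X s := fun h => hXr (hX.2 h)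
    have key : ∀ t : ℕ, ¬ X t →
        (t = 2 ∨ (t ≠ 2 ∧ ((orderOf ((Fintype.card F : ℕ) : ZMod t) = 1 ∧ t ∣ Fintype.card F - 1) ∨
        orderOf ((Fintype.card F : ℕ) : ZMod t) = 2 ∨ orderOf ((Fintype.card F : ℕ) : ZMod t) = 3 ∨
        orderOf ((Fintype.card F : ℕ) : ZMod t) = 4))) → t = 2 ∨ (t ≠ 2 ∧ t ∣ Fintype.card F - 1) ∨
        (t ≠ 2 ∧ orderOf ((Fintype.card F : ℕ) : ZMod t) = 3) := by
      rintro t ht (h | ⟨h2, ⟨-, h⟩ | h | h | h⟩)
      · exact Or.inl h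
      · exact Or.inr (Or.inl ⟨h2, h⟩)
      · exact absurd ⟨h2, Or.inl h⟩ ht
      · exact Or.inr (Or.inr ⟨h2, h⟩)
      · exact absurd ⟨h2, Or.inr h⟩ ht
    have hsl : ∀ t : ℕ, (t = 2 ∨ (t ≠ 2 ∧ t ∣ Fintype.card F - 1) ∨
        (t ≠ 2 ∧ orderOf ((Fintype.card F : ℕ) : ZMod t) = 3)) → t ∣ Nat.card (Matrix.SpecialLinearGroup (Fin 3) F) := by
      rintro t (rfl | ⟨-, h⟩ | ⟨-, h⟩)
      · exact h2sl
      · exact (h.trans (Nat.sub_one_dvd_pow_sub_one _ _)).trans (dvd_card_sl (by norm_num))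
      · exact (dvd_pow_sub_one_of_orderOf hq h dvd_rfl).trans (dvd_card_sl (by norm_num))
    have kr := key r hXr hrS
    have ks := key s hXs hsS
    by_cases h1 : r ≠ 2 ∧ r ∣ Fintype.card F - 1
    · exact a1 r s hr hs hrs h1.1 h1.2 (hsl s ks)
    by_cases h2 : s ≠ 2 ∧ s ∣ Fintype.card F - 1
    · exact (a1 s r hs hr hrs.symm h2.1 h2.2 (hsl r kr)).symm
    rcases kr with rfl | h | ⟨hr2, hr3⟩
    · rcases ks with rfl | h | ⟨hs2, hs3⟩
      · exact absurd rfl hrs
      · exact absurd h h2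
      · exact a7 s hs hs2 hs3
    · exact absurd h h1
    · rcases ks with rfl | h | ⟨hs2, hs3⟩
      · exact (a7 r hr hr2 hr3).symm
      · exact absurd h h2
      · exact adj_A hZ hA (adj_of_psl_pair hp hf hF (by norm_num) hr hs hrs hr3 hs3 (by norm_num) le_rfl
          (by norm_num) (Or.inr dvd_rfl))

theorem goalA_psl4 {f : ℕ} (hf : 2 ≤ f) (hF : Fintype.card F = 2 ^ f)
    (hZ : Subgroup.center P4 = ⊥) : GoalA P4 := by
  intro A hA
  have hf1 : 1 ≤ f := by omega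
  have hfin := finite_psl (F := F) 4
  by_cases hγ : ∃ x ∈ A, orderOf x = 2 ∧ IsGraphAutClassPSL x
  · by_cases hs : ∃ s : ℕ, s.Prime ∧ s ∣ Nat.card A ∧ ¬ s ∣ Nat.card P4
    · obtain ⟨s, hs, hsA, hsS⟩ := hs
      exact Or.inl (has3_psl4_s hf1 hF hZ hA hs hsA hsS)
    · push Not at hs
      obtain ⟨x, hxA, -, hx⟩ := hγ
      exact Or.inr (cov_psl4_graph hf1 hF hZ hA hxA hx hs)
  have hγ' : ∀ x ∈ A, orderOf x = 2 → ¬ IsGraphAutClassPSL x := fun x hxA hx h => hγ ⟨x, hxA, hx, h⟩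
  by_cases hu : ∃ x ∈ A, orderOf x = 2 ∧ GfT x
  · obtain ⟨x2, hx2A, hx2, hu⟩ := hu
    have hfe : Even f := (psl_cent_graphField Nat.prime_two hf1 hF (by norm_num) hx2 hu.choose_spec.2.2).1
    obtain ⟨g, hg⟩ := hfe.two_dvd
    have hg1 : 1 ≤ g := by omega
    have hφ : ∀ x ∈ A, orderOf x = 2 → ¬ FldT 2 x := by
      intro x hxA hx h
      exact hγ (graph_of_field_gf (by norm_num) hA (by rw [gcd4 hf1 hF]; exact odd_one) hxA hx2A h hu)
    obtain ⟨r3, hr3, ho3, hn3, -, -⟩ := exists_rk (p := 2) (f := g) (k := 3) Nat.prime_two hg1 le_rfl (by omega)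
    left
    have o3 : orderOf ((Fintype.card F : ℕ) : ZMod r3) = 3 := by
      rw [hF, hg]
      exact orderOf_sq ho3
    refine has3_psl4_two hf hF hZ hA hγ' (r3 := r3) (N3 := orderOf (2 : ZMod r3)) ⟨hr3, by norm_cast⟩ ?_ o3
      (by rw [hg]; exact hn3) (Or.inl hφ) (Or.inr ?_)
    · exact_mod_cast orderOf_pos_of hg1 (by norm_num) ho3
    · intro g' hg'
      have : g' = g := by omega
      rw [this]
      exact ho3
  have hu' : ∀ x ∈ A, orderOf x = 2 → ¬ GfT x := fun x hxA hx h => hu ⟨x, hxA, hx, h⟩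
  by_cases hφ : ∃ x ∈ A, orderOf x = 2 ∧ FldT 2 x
  · by_cases hf2 : f = 2
    · subst hf2
      exact Or.inr (cov_psl4_four hF hZ hA hφ)
    · left
      obtain ⟨r3, h3⟩ := Ppd.exists (p := 2) (n := f * 3) le_rfl (by omega) (by omega)
      have o3 : orderOf ((Fintype.card F : ℕ) : ZMod r3) = 3 := by rw [hF]; exact h3.orderOf_pow hf1
      exact has3_psl4_two hf hF hZ hA hγ' h3 (by omega) o3 (h3.not_dvd_mul (by omega) hf1) (Or.inr rfl) (Or.inl hu')
  · have hφ' : ∀ x ∈ A, orderOf x = 2 → ¬ FldT 2 x := fun x hxA hx h => hφ ⟨x, hxA, hx, h⟩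
    left
    obtain ⟨r3, hr3, ho3, hn3, -, -⟩ := exists_rk (p := 2) (f := f) (k := 3) Nat.prime_two hf1 le_rfl (by omega)
    have o3 : orderOf ((Fintype.card F : ℕ) : ZMod r3) = 3 := by rw [hF]; exact ho3
    refine has3_psl4_two hf hF hZ hA hγ' (r3 := r3) (N3 := orderOf (2 : ZMod r3)) ⟨hr3, by norm_cast⟩ ?_ o3
      (fun h => hn3 (h.mul_left _)) (Or.inl hφ') (Or.inl hu')
    exact_mod_cast orderOf_pos_of hf1 (by norm_num) ho3

end

theorem goal_psl4.{a, b} {F : Type a} [Field F] [Fintype F]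
    (hZ : Subgroup.center (Matrix.ProjectiveSpecialLinearGroup (Fin 4) F) = ⊥) :
    Goal.{a, b} (Matrix.ProjectiveSpecialLinearGroup (Fin 4) F) := by
  obtain ⟨p, f, hp, hf, hF⟩ := (isPrimePow_nat_iff _).1 (Fintype.isPrimePow_card_of_field (α := F))
  have hF := hF.symm
  by_cases hp2 : p = 2
  · subst hp2
    by_cases hf2 : 2 ≤ f
    · exact goal_of_goalA (goalA_psl4 hf2 hF hZ)
    · have hf1 : f = 1 := by omega
      subst hf1
      have hfin := finite_psl (F := F) 4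
      have hO := card_out_psl hp hf hF (by norm_num) hZ
      rw [gcd4 hf hF] at hO
      apply goal_of_primes {2, 3, 5, 7} (by decide)
      · intro r hr hd
        have h1 := of_dvd_psl (by norm_num) hr hd
        rw [hF, pow_one] at h1
        rcases h1 with h1 | ⟨k, h1, h2, h3⟩
        · rw [(Nat.prime_dvd_prime_iff_eq hr Nat.prime_two).1 h1]; decide
        · have h4 : r ∣ 3 ^ 2 * (5 * 7) := by
            interval_cases k
            · exact h3.trans (by norm_num)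
            · exact h3.trans (by norm_num)
            · exact h3.trans (by norm_num)
          rcases hr.dvd_mul.1 h4 with h6 | h6
          · rw [(Nat.prime_dvd_prime_iff_eq hr Nat.prime_three).1 (hr.dvd_of_dvd_pow h6)]; decide
          · rcases hr.dvd_mul.1 h6 with h6 | h6
            · rw [(Nat.prime_dvd_prime_iff_eq hr Nat.prime_five).1 h6]; decide
            · rw [(Nat.prime_dvd_prime_iff_eq hr (by norm_num)).1 h6]; decide
      · intro r hr hd
        rw [hO] at hd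
        rw [(Nat.prime_dvd_prime_iff_eq hr Nat.prime_two).1 hd]; decide
  · exact goal_of_goalA fun A hA => Or.inl (has3_psl4_odd hp hf hF hp2 hZ hA)

end Cfsg.Agent.H163.PG
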