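import Mathlib
import Cfsg.Agent.H163.PG.L3
import Cfsg.Agent.H163.PG.L4Fin

/-!
# Almost simple groups with socle `PSL_3(q)`
-/

set_option autoImplicit false

namespace Cfsg.Agent.H163.PG

open Cfsg
open Cfsg.Agent.H966.PSLAut
open Cfsg.Agent.H199.PslAut (Psi Psi_mem)
open Cfsg.Agent.ClassicalGeometry.AutPSL.Auto (lift fld itr cj itr_mul_itr)
open Cfsg.Agent.ClassicalGeometry.AutPSL.Main (injective_aux not_graph)

universe u

/-- `9 ∣ q - 1` if `q ≡ 1 (mod 3)` is a cube -/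
theorem nine_dvd {q0 : ℕ} (h : 3 ∣ q0 ^ 3 - 1) (h1 : 1 ≤ q0) : 9 ∣ q0 ^ 3 - 1 := by
  have h2 : 1 ≤ q0 ^ 3 := Nat.one_le_pow _ _ h1
  have h3 : q0 ^ 3 % 3 = 1 := by omega
  have h4 : q0 % 9 < 9 := Nat.mod_lt _ (by norm_num)
  have h5 : q0 ^ 3 % 9 = (q0 % 9) ^ 3 % 9 := Nat.pow_mod _ _ _
  have h6 : q0 ^ 3 % 3 = (q0 % 9) ^ 3 % 3 := by
    rw [Nat.pow_mod, Nat.pow_mod (q0 % 9), Nat.mod_mod_of_dvd _ (by norm_num : 3 ∣ 9)]
  generalize q0 % 9 = t at h4 h5 h6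
  interval_cases t <;> omega

theorem not_three_dvd_f {p f : ℕ} (hp : 1 ≤ p) (h3 : 3 ∣ p ^ f - 1) (h9 : ¬ 9 ∣ p ^ f - 1) : ¬ 3 ∣ f := by
  rintro ⟨g, rfl⟩
  rw [mul_comm, pow_mul] at h3 h9
  exact h9 (nine_dvd h3 (Nat.one_le_pow _ _ hp))

section

variable {F : Type u} [Field F] [Fintype F]

local notation "P3" => Matrix.ProjectiveSpecialLinearGroup (Fin 3) F

theorem adj_psl3_iff {p f : ℕ} (hp : p.Prime) (hF : Fintype.card F = p ^ f) {r s : ℕ} :
    Adj P3 r s ↔ (r * s ∣ (Fintype.card F ^ 2 + Fintype.card F + 1) / Nat.gcd 3 (Fintype.card F - 1) ∨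
      r * s ∣ (Fintype.card F ^ 2 - 1) / Nat.gcd 3 (Fintype.card F - 1) ∨ r * s ∣ Fintype.card F - 1 ∨
      r * s ∣ p * (Fintype.card F - 1) / Nat.gcd 3 (Fintype.card F - 1) ∨ (p = 2 ∧ r * s ∣ 4)) := by
  have := Fact.mk hp
  have := charP_of_card hp hF
  have h := S2476.result (F := F) p
  have h1 : r * s ∈ Set.range (orderOf : P3 → ℕ) ↔ r * s ∈ {m : ℕ | m ∣ (Fintype.card F ^ 2 + Fintype.card F + 1) / Nat.gcd 3 (Fintype.card F - 1) ∨
        m ∣ (Fintype.card F ^ 2 - 1) / Nat.gcd 3 (Fintype.card F - 1) ∨ m ∣ Fintype.card F - 1 ∨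
        m ∣ p * (Fintype.card F - 1) / Nat.gcd 3 (Fintype.card F - 1) ∨ (p = 2 ∧ m ∣ 4)} := by rw [h]
  exact h1

omit [Field F] in
theorem gcd3 (h3 : 3 ∣ Fintype.card F - 1) : Nat.gcd 3 (Fintype.card F - 1) = 3 := Nat.gcd_eq_left h3

/-- `3` is not adjacent to a prime of order `2` or `3` if `3` divides `q - 1` exactly -/
theorem three_nonadj {p f : ℕ} (hp : p.Prime) (hf : 1 ≤ f) (hF : Fintype.card F = p ^ f)
    (h3 : 3 ∣ Fintype.card F - 1) (h9 : ¬ 9 ∣ Fintype.card F - 1) {r k : ℕ} (hr : r.Prime)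
    (hk : orderOf ((Fintype.card F : ℕ) : ZMod r) = k) (h2 : 2 ≤ k) : ¬ Adj P3 3 r := by
  have hq : 2 ≤ Fintype.card F := Fintype.one_lt_card
  have hrp : r ≠ p := ne_char_of_ord (k := k) hf hr (by rw [← hF]; exact hk) (by omega)
  have hr1 : ¬ r ∣ Fintype.card F - 1 := not_dvd_sub_one (by omega) hk h2
  rw [adj_psl3_iff hp hF, gcd3 h3]
  obtain ⟨t, ht⟩ : ∃ t, Fintype.card F = 3 * t + 1 := by
    obtain ⟨t, ht⟩ := h3
    exact ⟨t, by omega⟩
  have ht3 : ¬ 3 ∣ t := by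
    rintro ⟨u, rfl⟩
    apply h9
    rw [ht]
    exact ⟨u, by omega⟩
  rintro (h | h | h | h | ⟨-, h⟩)
  · have h5 : 3 ∣ (Fintype.card F ^ 2 + Fintype.card F + 1) / 3 := (Dvd.intro _ rfl).trans h
    have h6 : (Fintype.card F ^ 2 + Fintype.card F + 1) = 3 * (3 * t * t + 3 * t + 1) := by rw [ht]; ring
    rw [h6, Nat.mul_div_cancel_left _ (by norm_num)] at h5
    have h7 : 3 * t * t + 3 * t + 1 = 3 * (t * t + t) + 1 := by ring
    omega
  · have h5 : 3 ∣ (Fintype.card F ^ 2 - 1) / 3 := (Dvd.intro _ rfl).trans h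
    have h6 : Fintype.card F ^ 2 - 1 = 3 * (t * (3 * t + 2)) := by
      rw [ht]
      have : (3 * t + 1) ^ 2 = 3 * (t * (3 * t + 2)) + 1 := by ring
      omega
    rw [h6, Nat.mul_div_cancel_left _ (by norm_num)] at h5
    rcases Nat.prime_three.dvd_mul.1 h5 with h | h
    · exact ht3 h
    · omega
  · exact hr1 ((Dvd.intro_left 3 rfl).trans h)
  · have h5 : r ∣ p * (Fintype.card F - 1) := ((Dvd.intro_left 3 rfl).trans h).trans (Nat.div_dvd_of_dvd (h3.mul_left _))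
    rcases hr.dvd_mul.1 h5 with h | h
    · exact hrp ((Nat.prime_dvd_prime_iff_eq hr hp).1 h)
    · exact hr1 h
  · have h5 : 3 ∣ 4 := (Dvd.intro _ rfl).trans h
    omega

/-- `3 ∣ [A : Inn]`, `3` exactly divides `q - 1`: `Inndiag ≤ A` -/
theorem inndiag_le_of_three {p f : ℕ} (hp : p.Prime) (hf : 1 ≤ f) (hF : Fintype.card F = p ^ f) (h3f : ¬ 3 ∣ f)
    (h3 : 3 ∣ Fintype.card F - 1) {A : Subgroup (MulAut P3)} (hA : Inn P3 ≤ A)
    (h : 3 ∣ (Inn P3).relIndex A) : inndiagPSL 3 F ≤ A := by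
  classical
  have hfin := finite_psl (F := F) 3
  have := Fact.mk hp
  have h3p : Fact (Nat.Prime 3) := ⟨Nat.prime_three⟩
  have : Nontrivial (Fin 3) := inferInstance
  rw [Subgroup.relIndex, Subgroup.index_eq_card] at h
  obtain ⟨z', hz'⟩ := exists_prime_orderOf_dvd_card' (G := A ⧸ (Inn P3).subgroupOf A) 3 h
  obtain ⟨z, rfl⟩ := QuotientGroup.mk_surjective z'
  have hz3 : (z : MulAut P3) ^ 3 ∈ Inn P3 := by
    have h1 : (QuotientGroup.mk (z ^ 3) : A ⧸ (Inn P3).subgroupOf A) = 1 := by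
      exact orderOf_dvd_iff_pow_eq_one.1 (dvd_of_eq hz')
    rw [QuotientGroup.eq_one_iff] at h1
    exact h1
  have hz : (z : MulAut P3) ∉ Inn P3 := by
    intro h1
    have h2 : (QuotientGroup.mk z : A ⧸ (Inn P3).subgroupOf A) = 1 := by
      rw [QuotientGroup.eq_one_iff]
      exact h1
    rw [h2, orderOf_one] at hz'
    omega
  obtain ⟨C, hC⟩ := mem_inndiag.1 (inn_le_inndiag hz3)
  obtain ⟨g, hg⟩ : ∃ g : Matrix.GeneralLinearGroup (Fin 3) F, (z : MulAut P3) = Psi 3 F g := by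
    obtain ⟨g, σ, hzz | hzz⟩ := exists_lift (by norm_num) (z : MulAut P3)
    · refine ⟨g, ?_⟩
      have h1 : lift (cj (C⁻¹ * nrm σ g 3) * fld (σ ^ 3)) = lift (fld (1 : F ≃+* F)) := by
        have h2 : (z : MulAut P3) ^ 3 = lift (cj (nrm σ g 3) * fld (σ ^ 3)) := by
          rw [hzz, ← map_pow, pow_eq]
        rw [map_mul cj, mul_assoc, map_mul lift, ← h2, ← hC, ← map_mul, ← map_mul, inv_mul_cancel, map_one, map_one,
          map_one, map_one]
      have h2 := (injective_aux h1).2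
      have h4 : orderOf σ ∣ f := by
        rw [← Lib.FieldAutCard.card_ringAut (p := p) hf hF]
        exact orderOf_dvd_natCard σ
      have h5 : σ = 1 := by
        rcases (Nat.dvd_prime Nat.prime_three).1 (orderOf_dvd_of_pow_eq_one h2) with h6 | h6
        · exact orderOf_eq_one_iff.1 h6
        · rw [h6] at h4
          exact absurd h4 h3f
      rw [hzz, h5, map_one, mul_one]
      rfl
    · exfalso
      obtain ⟨B, τ, hB⟩ := pow_itr g σ 1
      have h2 : (z : MulAut P3) ^ 3 = lift (cj B * fld τ * itr) := by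
        rw [hzz, ← map_pow]
        exact congrArg lift hB
      apply not_graph (ι := Fin 3) (F := F) (by rw [Fintype.card_fin]) (C := C⁻¹ * B) (σ := τ) (τ := 1)
      rw [map_mul cj, mul_assoc, mul_assoc, map_mul lift, ← mul_assoc (cj B), ← h2, ← hC, ← map_mul, ← map_mul,
        inv_mul_cancel, map_one, map_one, map_one, map_one]
  -- the determinants modulo cubes
  have hindex : (powMonoidHom 3 : Fˣ →* Fˣ).range.index = 3 := by
    rw [IsCyclic.index_powMonoidHom_range, Nat.card_eq_fintype_card, Fintype.card_units, Nat.gcd_comm]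
    exact Nat.gcd_eq_left h3
  have hcardQ : Nat.card (Fˣ ⧸ (powMonoidHom 3 : Fˣ →* Fˣ).range) = 3 := by
    rw [← Subgroup.index_eq_card, hindex]
  have hg1 : (QuotientGroup.mk (Matrix.GeneralLinearGroup.det g) : Fˣ ⧸ (powMonoidHom 3 : Fˣ →* Fˣ).range) ≠ 1 := by
    intro h1
    rw [QuotientGroup.eq_one_iff] at h1
    obtain ⟨u, hu⟩ := h1
    apply hz
    rw [hg]
    exact psl_inner_of_det (u := u) hu
  intro w hw
  obtain ⟨h0, hw0⟩ := Cfsg.Agent.H199.PslAut.mem_inndiag.1 hw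
  obtain ⟨i, hi⟩ := Subgroup.mem_zpowers_iff.1 (mem_zpowers_of_prime_card hcardQ hg1
    (g' := (QuotientGroup.mk (Matrix.GeneralLinearGroup.det h0) : Fˣ ⧸ (powMonoidHom 3 : Fˣ →* Fˣ).range)))
  rw [← QuotientGroup.mk_zpow, QuotientGroup.eq] at hi
  obtain ⟨u, hu⟩ := hi
  have h7 : Psi 3 F ((g ^ i)⁻¹ * h0) ∈ Inn P3 := by
    refine psl_inner_of_det (u := u) ?_
    rw [map_mul, map_inv, map_zpow]
    exact hu
  have h8 : w = (z : MulAut P3) ^ i * Psi 3 F ((g ^ i)⁻¹ * h0) := by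
    rw [hw0, hg, ← map_zpow, ← map_mul, mul_inv_cancel_left]
  rw [h8]
  exact A.mul_mem (A.zpow_mem z.2 i) (hA h7)

theorem sub_one_dvd_psl3 : Fintype.card F - 1 ∣ Nat.card P3 := by
  have hq : 2 ≤ Fintype.card F := Fintype.one_lt_card
  have h := card_psl (F := F) (n := 3) (by norm_num)
  obtain ⟨e, he⟩ := Nat.gcd_dvd_right 3 (Fintype.card F - 1)
  have hd : 0 < Nat.gcd 3 (Fintype.card F - 1) := Nat.gcd_pos_of_pos_left _ (by norm_num)
  have h1 : Fintype.card F - 1 ∣ Fintype.card F ^ 3 - 1 := Nat.sub_one_dvd_pow_sub_one _ _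
  have h2 : Fintype.card F - 1 ∣ Fintype.card F ^ 2 - 1 := Nat.sub_one_dvd_pow_sub_one _ _
  obtain ⟨a, ha⟩ := h1
  obtain ⟨b, hb⟩ := h2
  have h3 : ∏ i ∈ Finset.range (3 - 1), (Fintype.card F ^ (i + 2) - 1) = (Fintype.card F ^ 2 - 1) * (Fintype.card F ^ 3 - 1) := by
    rw [show 3 - 1 = 2 by norm_num, Finset.prod_range_succ, Finset.prod_range_one]
  rw [h3] at h
  have h4 : Nat.gcd 3 (Fintype.card F - 1) * Nat.card P3 = Nat.gcd 3 (Fintype.card F - 1) *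
      ((Fintype.card F - 1) * (Fintype.card F ^ (3 * (3 - 1) / 2) * e * a * b)) := by
    rw [h, ha, hb]
    nth_rewrite 2 [he]
    ring
  exact ⟨_, Nat.eq_of_mul_eq_mul_left hd h4⟩

/-- `p` odd: `{p, r2, r3}` -/
theorem has3_psl3_odd {p f : ℕ} (hp : p.Prime) (hf : 1 ≤ f) (hF : Fintype.card F = p ^ f) (hp2 : p ≠ 2)
    (hZ : Subgroup.center P3 = ⊥) {A : Subgroup (MulAut P3)} (hA : Inn P3 ≤ A) {r2 : ℕ} (h2 : Ppd p (f * 2) r2) : Has3 A := by
  obtain ⟨r3, h3⟩ := Ppd.exists (p := p) (n := f * 3) hp.two_le (by omega) (fun h => hp2 h.1)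
  have o2 : orderOf ((Fintype.card F : ℕ) : ZMod r2) = 2 := by rw [hF]; exact h2.orderOf_pow hf
  have o3 : orderOf ((Fintype.card F : ℕ) : ZMod r3) = 3 := by rw [hF]; exact h3.orderOf_pow hf
  have i2 : ∀ y ∈ A, orderOf y = r2 → y ∈ Inn P3 := fun y _ hy =>
    psl_inner hp hf hF le_rfl hZ h2.prime o2 (by norm_num) (h2.not_dvd_mul (by omega) hf) y hy
  have i3 : ∀ y ∈ A, orderOf y = r3 → y ∈ Inn P3 := fun y _ hy =>
    psl_inner hp hf hF le_rfl hZ h3.prime o3 (by norm_num) (h3.not_dvd_mul (by omega) hf) y hy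
  have ip : ∀ y ∈ A, y ∈ inndiagPSL 3 F → orderOf y = p → y ∈ Inn P3 := fun y _ hy hyp => by
    refine psl_inner_of_prime hy hp hyp fun hd => ?_
    have h1 : p ∣ Fintype.card F - 1 := hd.trans (Nat.gcd_dvd_right 3 _)
    have h4 : p ∣ Fintype.card F := by rw [hF]; exact dvd_pow_self p (by omega)
    have h5 : 1 ≤ Fintype.card F := Fintype.card_pos
    exact hp.one_lt.ne' (Nat.dvd_one.1 ((Nat.dvd_sub_iff_right h5 h4).1 h1))
  have n23 : r2 ≠ r3 := h2.ne_of_ne h3 (by omega)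
  have n2p := h2.ne (by omega)
  have n3p := h3.ne (by omega)
  have d2 := dvd_psl (F := F) (n := 3) h2.prime o2 (by norm_num) (by norm_num)
  have d3 := dvd_psl (F := F) (n := 3) h3.prime o3 (by norm_num) (by norm_num)
  have hp3 : 3 ≤ p := by
    have := hp.two_le
    omega
  refine ⟨p, r2, r3, hp, h2.prime, h3.prime, n2p.symm, n23, n3p.symm,
    dvd_card_A hZ hA (char_dvd_psl hp hf hF (by norm_num)), dvd_card_A hZ hA d2, dvd_card_A hZ hA d3, ?_, ?_, ?_⟩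
  · refine psl_not_adj_odd hp hf hF le_rfl hZ A hp hp2 h2 (by omega) n2p.symm i2 ip ?_ ?_
    · exact fun h k hk1 hk2 => no_field (m := 3) (n := 3) hf h hp3 hp.pos (by omega) hk2 (by norm_num)
    · exact (psl_char_iff hp hF le_rfl h2.prime (ne_two_of_ord o2 (by norm_num)) n2p d2 o2).2 (Or.inl (by norm_num))
  · refine not_adj' hZ h2.prime h3.prime n23 i2 i3 ?_
    exact (psl_pair_iff hp hf hF le_rfl h2.prime h3.prime n23 o2 o3 (by norm_num) (by norm_num) le_rfl).2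
      ⟨by norm_num, by decide⟩
  · refine psl_not_adj_odd hp hf hF le_rfl hZ A hp hp2 h3 (by omega) n3p.symm i3 ip ?_ ?_
    · exact fun h k hk1 hk2 => no_field (m := 3) (n := 3) hf h hp3 hp.pos (by omega) hk2 (by norm_num)
    · exact (psl_char_iff hp hF le_rfl h3.prime (ne_two_of_ord o3 (by norm_num)) n3p d3 o3).2 (Or.inl (by norm_num))

end

end Cfsg.Agent.H163.PG
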