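import Mathlib
import Cfsg.Agent.H163.PG.PslN
import Cfsg.Agent.H163.PG.L3Goal

/-!
# Almost simple groups with socle `PSL_3(q)`: conclusion
-/

set_option autoImplicit false

namespace Cfsg.Agent.H163.PG

open Cfsg
open Cfsg.Agent.ClassicalGeometry.AutPSL.Auto (lift fld itr cj)

universe u v

/-- three pairwise non-adjacent primes with all elements inner -/
theorem has3_of_inner {S : Type v} [Group S] (hZ : Subgroup.center S = ⊥) {A : Subgroup (MulAut S)} (hA : Inn S ≤ A)
    {p q r : ℕ} (hp : p.Prime) (hq : q.Prime) (hr : r.Prime) (hpq : p ≠ q) (hqr : q ≠ r) (hpr : p ≠ r)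
    (dp : p ∣ Nat.card S) (dq : q ∣ Nat.card S) (dr : r ∣ Nat.card S)
    (ip : ∀ y ∈ A, orderOf y = p → y ∈ Inn S) (iq : ∀ y ∈ A, orderOf y = q → y ∈ Inn S)
    (ir : ∀ y ∈ A, orderOf y = r → y ∈ Inn S)
    (n1 : ¬ Adj S p q) (n2 : ¬ Adj S q r) (n3 : ¬ Adj S p r) : Has3 A :=
  ⟨p, q, r, hp, hq, hr, hpq, hqr, hpr, dvd_card_A hZ hA dp, dvd_card_A hZ hA dq, dvd_card_A hZ hA dr,
    not_adj' hZ hp hq hpq ip iq n1, not_adj' hZ hq hr hqr iq ir n2, not_adj' hZ hp hr hpr ip ir n3⟩

/-- a prime divisor of `n` which does not divide `n / gcd(3, m)` is `3` -/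
theorem eq_three_of_not_dvd {n m r : ℕ} (hr : r.Prime) (hrn : r ∣ n) (hmn : m ∣ n) (h : ¬ r ∣ n / Nat.gcd 3 m) :
    r = 3 ∧ 3 ∣ m ∧ ¬ 9 ∣ n := by
  rcases (Nat.dvd_prime Nat.prime_three).1 (Nat.gcd_dvd_left 3 m) with h1 | h1
  · rw [h1, Nat.div_one] at h
    exact absurd hrn h
  · have h3m : 3 ∣ m := h1 ▸ Nat.gcd_dvd_right 3 m
    rw [h1] at h
    obtain ⟨k, hk⟩ := h3m.trans hmn
    rw [hk, Nat.mul_div_cancel_left _ (by norm_num)] at h
    refine ⟨?_, h3m, ?_⟩
    · rw [hk] at hrn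
      exact (Nat.prime_dvd_prime_iff_eq hr Nat.prime_three).1 ((hr.dvd_mul.1 hrn).resolve_right h)
    · intro h9
      rw [hk] at hrn
      have hr3 : r = 3 := (Nat.prime_dvd_prime_iff_eq hr Nat.prime_three).1 ((hr.dvd_mul.1 hrn).resolve_right h)
      subst hr3
      rw [hk] at h9
      exact h (Nat.dvd_of_mul_dvd_mul_left (by norm_num : 0 < 3) (show 3 * 3 ∣ 3 * k from h9))

theorem three_dvd_mod {k : ℕ} (h : ¬ 3 ∣ 2 ^ k - 1) : (2 ^ k - 1) % 3 = 1 := by
  have h1 : 2 ^ k % 3 = 1 ∨ 2 ^ k % 3 = 2 := by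
    induction k with
    | zero => left; norm_num
    | succ n ih =>
      have : ¬ 3 ∣ 2 ^ (n + 1) := not_three_dvd_two_pow
      omega
  have h2 : 1 ≤ 2 ^ k := Nat.one_le_two_pow
  omega

section

variable {F : Type u} [Field F] [Fintype F]

local notation "P3" => Matrix.ProjectiveSpecialLinearGroup (Fin 3) F

theorem three_dvd_psl3 {p f : ℕ} (hp : p.Prime) (hf : 1 ≤ f) (hF : Fintype.card F = p ^ f) : 3 ∣ Nat.card P3 := by
  have hq : 2 ≤ Fintype.card F := Fintype.one_lt_card
  by_cases h3p : p = 3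
  · have h := char_dvd_psl (F := F) (n := 3) hp hf hF (by norm_num)
    rw [h3p] at h
    exact h
  have h3F : ¬ 3 ∣ Fintype.card F := by
    rw [hF]
    intro h
    exact h3p ((Nat.prime_dvd_prime_iff_eq Nat.prime_three hp).1 (Nat.prime_three.dvd_of_dvd_pow h)).symm
  by_cases h31 : 3 ∣ Fintype.card F - 1
  · exact h31.trans sub_one_dvd_psl3
  · have h2 := three_dvd_sq (q := Fintype.card F) (by omega) h3F
    refine dvd_psl (k := 2) Nat.prime_three ?_ le_rfl (by norm_num)
    rw [Lib.Zsigmondy.dvd_pow_sub_one_iff (by omega)] at h2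
    rcases (Nat.dvd_prime Nat.prime_two).1 h2 with h | h
    · exfalso
      apply h31
      have := dvd_pow_sub_one_of_orderOf (q := Fintype.card F) (by omega) h (m := 1) dvd_rfl
      rwa [pow_one] at this
    · exact h

/-- adjacency of the divisors of `q - 1` -/
theorem adj_psl3_sub {p f : ℕ} (hp : p.Prime) (hF : Fintype.card F = p ^ f) {r s : ℕ} (hr : r.Prime) (hs : s.Prime)
    (hrs : r ≠ s) (h1 : r ∣ Fintype.card F - 1) (h2 : s ∣ Fintype.card F - 1) : Adj P3 r s :=
  (adj_psl3_iff hp hF).2 (Or.inr (Or.inr (Or.inl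
    (Nat.Coprime.mul_dvd_of_dvd_of_dvd ((Nat.coprime_primes hr hs).2 hrs) h1 h2))))

/-- the prime divisors of `|PSL_3(q)|` -/
theorem ord_psl3 {p f : ℕ} (hp : p.Prime) (hF : Fintype.card F = p ^ f) {r : ℕ} (hr : r.Prime)
    (hd : r ∣ Nat.card P3) : r = p ∨ r ∣ Fintype.card F ^ 2 - 1 ∨ orderOf ((Fintype.card F : ℕ) : ZMod r) = 3 := by
  have hq : 1 ≤ Fintype.card F := Fintype.card_pos
  rcases of_dvd_psl (by norm_num) hr hd with h | ⟨k, h1, h2, h3⟩
  · rw [hF] at h
    exact Or.inl ((Nat.prime_dvd_prime_iff_eq hr hp).1 (hr.dvd_of_dvd_pow h))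
  · right
    have hk : k = 2 ∨ k = 3 := by omega
    rcases hk with rfl | rfl
    · exact Or.inl h3
    · rw [Lib.Zsigmondy.dvd_pow_sub_one_iff hq] at h3
      rcases (Nat.dvd_prime Nat.prime_three).1 h3 with h | h
      · exact Or.inl (dvd_pow_sub_one_of_orderOf hq h (by norm_num))
      · exact Or.inr h

/-! ### Mersenne primes -/

theorem goalA_psl3_mersenne {p k : ℕ} (hp : p.Prime) (hF : Fintype.card F = p ^ 1) (hp2 : p ≠ 2) (hp31 : 7 < p)
    (hk : p + 1 = 2 ^ k) (hZ : Subgroup.center P3 = ⊥) : GoalA P3 := by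
  intro A hA
  classical
  have hfin := finite_psl (F := F) 3
  have hFp : Fintype.card F = p := by rw [hF, pow_one]
  have hq : 1 ≤ Fintype.card F := Fintype.card_pos
  have hpe : p = 2 ^ k - 1 := by omega
  have hp3 : ¬ 3 ∣ p := by
    intro h
    have := (Nat.prime_dvd_prime_iff_eq Nat.prime_three hp).1 h
    omega
  have hpm : p % 3 = 1 := by
    rw [hpe] at hp3 ⊢
    exact three_dvd_mod hp3
  have h31 : 3 ∣ Fintype.card F - 1 := by rw [hFp]; omega
  have hg3 := gcd3 h31
  have hO : Nat.card (Cfsg.Out P3) = 2 * 3 := by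
    rw [card_out_psl hp le_rfl hF le_rfl hZ, hg3]
  have h2S : 2 ∣ Nat.card P3 := by
    refine dvd_trans ?_ sub_one_dvd_psl3
    rw [hFp]
    rcases hp.eq_two_or_odd with h | h
    · exact absurd h hp2
    · omega
  have h3S : 3 ∣ Nat.card P3 := three_dvd_psl3 hp le_rfl hF
  have hodd : p % 2 = 1 := by
    rcases hp.eq_two_or_odd with h | h
    · exact absurd h hp2
    · exact h
  by_cases hcase : ¬ 9 ∣ Fintype.card F - 1 ∧ ¬ 3 ∣ (Inn P3).relIndex A
  · left
    obtain ⟨h9, hrel⟩ := hcase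
    obtain ⟨r3, h3⟩ := Ppd.exists (p := p) (n := 1 * 3) hp.two_le (by omega) (fun h => hp2 h.1)
    have o3 : orderOf ((Fintype.card F : ℕ) : ZMod r3) = 3 := by rw [hF]; exact h3.orderOf_pow le_rfl
    have i3 : ∀ y ∈ A, orderOf y = r3 → y ∈ Inn P3 := fun y _ hy =>
      psl_inner hp le_rfl hF le_rfl hZ h3.prime o3 (by norm_num) (h3.not_dvd_mul (by omega) le_rfl) y hy
    have ip : ∀ y ∈ A, orderOf y = p → y ∈ Inn P3 := fun y _ hy => by
      refine inner_of_not_dvd hp ?_ hy
      rw [hO]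
      intro h
      have := Nat.le_of_dvd (by norm_num) h
      omega
    have it : ∀ y ∈ A, orderOf y = 3 → y ∈ Inn P3 := fun y hyA hy =>
      inner_of_not_dvd_relIndex Nat.prime_three hrel hyA hy
    have d3 := dvd_psl (F := F) (n := 3) h3.prime o3 (by norm_num) (by norm_num)
    have n3 : 3 ≠ r3 := by
      rintro rfl
      exact not_dvd_sub_one hq o3 (by norm_num) h31
    refine has3_of_inner hZ hA Nat.prime_three hp h3.prime (by omega) (h3.ne (by omega)).symm n3 h3S
      (char_dvd_psl hp le_rfl hF (by norm_num)) d3 it ip i3 ?_ ?_ ?_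
    · rw [adj_comm]
      exact (psl_char_iff hp hF le_rfl Nat.prime_three (by norm_num) (by omega) h3S rfl).2
        (Or.inr ⟨rfl, rfl, h31, h9⟩)
    · exact (psl_char_iff hp hF le_rfl h3.prime (ne_two_of_ord o3 (by norm_num)) (h3.ne (by omega)) d3 o3).2
        (Or.inl (by norm_num))
    · exact three_nonadj hp le_rfl hF h31 h9 h3.prime o3 (by norm_num)
  · right
    have hcase' : 9 ∣ Fintype.card F - 1 ∨ 3 ∣ (Inn P3).relIndex A := by
      by_contra h
      rw [not_or] at h
      exact hcase h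
    have hπ : ∀ s : ℕ, s.Prime → s ∣ Nat.card A → s ∣ Nat.card P3 := by
      intro s hs hsA
      by_contra hcon
      have h1 := (exists_outer hZ hs hsA hcon).2
      rw [hO] at h1
      rcases hs.dvd_mul.1 h1 with h | h
      · rw [(Nat.prime_dvd_prime_iff_eq hs Nat.prime_two).1 h] at hcon
        exact hcon h2S
      · rw [(Nat.prime_dvd_prime_iff_eq hs Nat.prime_three).1 h] at hcon
        exact hcon h3S
    have key : ∀ r : ℕ, r.Prime → r ∣ Nat.card A → orderOf ((Fintype.card F : ℕ) : ZMod r) ≠ 3 →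
        r = p ∨ (r ≠ p ∧ r ∣ Fintype.card F - 1) := by
      intro r hr hrA ho
      rcases ord_psl3 hp hF hr (hπ r hr hrA) with h | h | h
      · exact Or.inl h
      · right
        have hrp : r ≠ p := by
          rintro rfl
          rw [hFp] at h
          have h1 : r ∣ r ^ 2 := dvd_pow_self r (by norm_num)
          have h2 : 1 ≤ r ^ 2 := Nat.one_le_pow _ _ (by omega)
          exact hr.one_lt.ne' (Nat.dvd_one.1 ((Nat.dvd_sub_iff_right h2 h1).1 h))
        refine ⟨hrp, ?_⟩
        have h1 : Fintype.card F ^ 2 - 1 = (Fintype.card F - 1) * 2 ^ k := by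
          rw [← hk, hFp]
          obtain ⟨t, rfl⟩ : ∃ t, p = t + 1 := ⟨p - 1, by omega⟩
          rw [Nat.add_sub_cancel]
          have : (t + 1) ^ 2 = t * (t + 1 + 1) + 1 := by ring
          omega
        rw [h1] at h
        rcases hr.dvd_mul.1 h with h | h
        · exact h
        · rw [(Nat.prime_dvd_prime_iff_eq hr Nat.prime_two).1 (hr.dvd_of_dvd_pow h), hFp]
          omega
      · exact absurd h ho
    have hpA : ∀ r : ℕ, r.Prime → r ≠ p → r ∣ Fintype.card F - 1 → Adj A r p := by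
      intro r hr hrp h1
      by_cases h2 : r ∣ (Fintype.card F - 1) / Nat.gcd 3 (Fintype.card F - 1)
      · apply adj_A hZ hA
        apply (adj_psl3_iff hp hF).2
        refine Or.inr (Or.inr (Or.inr (Or.inl ?_)))
        rw [Nat.mul_div_assoc _ (Nat.gcd_dvd_right _ _), mul_comm]
        exact Nat.mul_dvd_mul dvd_rfl h2
      · obtain ⟨rfl, -, h9⟩ := eq_three_of_not_dvd hr h1 dvd_rfl h2
        have h3 := hcase'.resolve_left h9
        have hD := inndiag_le_of_three hp le_rfl hF (by norm_num) h31 hA h3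
        exact adj_of_inndiag hZ hA hD hr hp hrp h1
          ((char_dvd_psl (F := F) (n := 2) hp le_rfl hF le_rfl).trans (Subgroup.card_quotient_dvd_card _))
    refine ⟨fun r => orderOf ((Fintype.card F : ℕ) : ZMod r) = 3, fun r s hr hs hrs hrA hsA hX => ?_⟩
    by_cases hXr : orderOf ((Fintype.card F : ℕ) : ZMod r) = 3
    · have hXs : orderOf ((Fintype.card F : ℕ) : ZMod s) = 3 := hX.1 hXr
      exact adj_A hZ hA (adj_of_psl_pair hp le_rfl hF le_rfl hr hs hrs hXr hXs (by norm_num) le_rfl le_rfl (Or.inr dvd_rfl))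
    · have hXs : ¬ orderOf ((Fintype.card F : ℕ) : ZMod s) = 3 := fun h => hXr (hX.2 h)
      rcases key r hr hrA hXr with rfl | ⟨h1, h2⟩
      · rcases key s hs hsA hXs with rfl | ⟨h3, h4⟩
        · exact absurd rfl hrs
        · exact (hpA s hs h3 h4).symm
      · rcases key s hs hsA hXs with rfl | ⟨h3, h4⟩
        · exact hpA r hr h1 h2
        · exact adj_A hZ hA (adj_psl3_sub hp hF hr hs hrs h2 h4)

/-! ### Characteristic two -/

theorem not_adj_two_psl3 {f : ℕ} (hF : Fintype.card F = 2 ^ f) {r k : ℕ}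
    (hr : r.Prime) (hk : orderOf ((Fintype.card F : ℕ) : ZMod r) = k) (h2 : 2 ≤ k) (hk3 : k ≤ 3) : ¬ Adj P3 2 r :=
  not_adj_two_sl hF le_rfl hr hk h2 hk3 (by omega) (ne_two_of_ord hk h2)

theorem goalA_psl3_two {f : ℕ} (hf : 4 ≤ f) (hF : Fintype.card F = 2 ^ f)
    (hZ : Subgroup.center P3 = ⊥) : GoalA P3 := by
  intro A hA
  classical
  have hf1 : 1 ≤ f := by omega
  have hp := Nat.prime_two
  have hfin := finite_psl (F := F) 3
  have hq : 1 ≤ Fintype.card F := Fintype.card_pos
  have h2F : (2 : F) = 0 := by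
    have := charP_of_card hp hF
    exact_mod_cast CharP.cast_eq_zero F 2
  have hO := card_out_psl hp hf1 hF le_rfl hZ
  have h2S : 2 ∣ Nat.card P3 := char_dvd_psl hp hf1 hF (by norm_num)
  have h3S : 3 ∣ Nat.card P3 := three_dvd_psl3 hp hf1 hF
  obtain ⟨r2, h2⟩ := Ppd.exists (p := 2) (n := f * 2) le_rfl (by omega) (by omega)
  obtain ⟨r3, h3⟩ := Ppd.exists (p := 2) (n := f * 3) le_rfl (by omega) (by omega)
  have o2 : orderOf ((Fintype.card F : ℕ) : ZMod r2) = 2 := by rw [hF]; exact h2.orderOf_pow hf1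
  have o3 : orderOf ((Fintype.card F : ℕ) : ZMod r3) = 3 := by rw [hF]; exact h3.orderOf_pow hf1
  have i2 : ∀ y ∈ A, orderOf y = r2 → y ∈ Inn P3 := fun y _ hy =>
    psl_inner hp hf1 hF le_rfl hZ h2.prime o2 (by norm_num) (h2.not_dvd_mul (by omega) hf1) y hy
  have i3 : ∀ y ∈ A, orderOf y = r3 → y ∈ Inn P3 := fun y _ hy =>
    psl_inner hp hf1 hF le_rfl hZ h3.prime o3 (by norm_num) (h3.not_dvd_mul (by omega) hf1) y hy
  have ii : ∀ s : ℕ, s.Prime → s ≠ 3 → ∀ y ∈ A, y ∈ inndiagPSL 3 F → orderOf y = s → y ∈ Inn P3 := fun s hs hs3 y _ hy hyp =>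
    psl_inner_of_prime hy hs hyp fun hd => hs3
      ((Nat.prime_dvd_prime_iff_eq hs Nat.prime_three).1 (hd.trans (Nat.gcd_dvd_left 3 _)))
  have n23 : r2 ≠ r3 := h2.ne_of_ne h3 (by omega)
  have n22 := h2.ne (by omega)
  have n32 := h3.ne (by omega)
  have d2 := dvd_psl (F := F) (n := 3) h2.prime o2 (by norm_num) (by norm_num)
  have d3 := dvd_psl (F := F) (n := 3) h3.prime o3 (by norm_num) (by norm_num)
  have a23 : ¬ Adj P3 r2 r3 := (psl_pair_iff hp hf1 hF le_rfl h2.prime h3.prime n23 o2 o3 (by norm_num) (by norm_num)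
    le_rfl).2 ⟨by norm_num, by decide⟩
  by_cases hγ : ∃ x ∈ A, orderOf x = 2 ∧ IsGraphAutClassPSL x
  · by_cases hs : ∃ s : ℕ, s.Prime ∧ s ∣ Nat.card A ∧ ¬ s ∣ Nat.card P3
    · -- a prime outside `π(S)`
      left
      obtain ⟨s, hs, hsA, hsS⟩ := hs
      have hsO := (exists_outer hZ hs hsA hsS).2
      have hs2 : s ≠ 2 := by rintro rfl; exact hsS h2S
      have hs3 : s ≠ 3 := by rintro rfl; exact hsS h3S
      have hs5 : 5 ≤ s := by
        have := hs.two_le
        have : s ≠ 4 := by rintro rfl; exact absurd hs (by norm_num)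
        omega
      have ns2 : s ≠ r2 := by rintro rfl; exact hsS d2
      have ns3 : s ≠ r3 := by rintro rfl; exact hsS d3
      refine ⟨s, r2, r3, hs, h2.prime, h3.prime, ns2, n23, ns3, hsA, dvd_card_A hZ hA d2, dvd_card_A hZ hA d3, ?_, ?_, ?_⟩
      · refine psl_not_adj_odd hp hf1 hF le_rfl hZ A hs hs2 h2 (by omega) ns2 i2 (ii s hs hs3) ?_ (not_adj_of_not_dvd hsS)
        exact fun h k hk1 hk2 => no_field (m := 5) (n := 3) hf1 h hs5 hs.pos (by omega) hk2 (by norm_num)
      · exact not_adj' hZ h2.prime h3.prime n23 i2 i3 a23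
      · refine psl_not_adj_odd hp hf1 hF le_rfl hZ A hs hs2 h3 (by omega) ns3 i3 (ii s hs hs3) ?_ (not_adj_of_not_dvd hsS)
        exact fun h k hk1 hk2 => no_field (m := 5) (n := 3) hf1 h hs5 hs.pos (by omega) hk2 (by norm_num)
    · push Not at hs
      obtain ⟨x, hxA, hx2, hx⟩ := hγ
      by_cases hcase : 3 ∣ Fintype.card F - 1 ∧ ¬ 9 ∣ Fintype.card F - 1 ∧ ¬ 3 ∣ (Inn P3).relIndex A
      · -- `{3, r2, r3}`
        left
        obtain ⟨h31, h9, hrel⟩ := hcase
        have it : ∀ y ∈ A, orderOf y = 3 → y ∈ Inn P3 := fun y hyA hy =>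
          inner_of_not_dvd_relIndex Nat.prime_three hrel hyA hy
        have m2 : 3 ≠ r2 := by rintro rfl; exact not_dvd_sub_one hq o2 (by norm_num) h31
        have m3 : 3 ≠ r3 := by rintro rfl; exact not_dvd_sub_one hq o3 (by norm_num) h31
        exact has3_of_inner hZ hA Nat.prime_three h2.prime h3.prime m2 n23 m3 h3S d2 d3 it i2 i3
          (three_nonadj hp hf1 hF h31 h9 h2.prime o2 (by norm_num)) a23
          (three_nonadj hp hf1 hF h31 h9 h3.prime o3 (by norm_num))
      · right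
        have h2k : Fintype.card F - 1 ∣ Fintype.card F ^ 2 - 1 := Nat.sub_one_dvd_pow_sub_one _ _
        have hqe : 2 ∣ Fintype.card F := by rw [hF]; exact dvd_pow_self 2 (by omega)
        have hn2 : ∀ r : ℕ, r ∣ Fintype.card F ^ 2 - 1 → r ≠ 2 := by
          rintro r h rfl
          have h1 : 2 ∣ Fintype.card F ^ 2 := hqe.trans (dvd_pow_self _ (by omega))
          have h2 : 1 ≤ Fintype.card F ^ 2 := Nat.one_le_pow _ _ hq
          omega
        have h2A : ∀ r : ℕ, r.Prime → r ∣ Fintype.card F ^ 2 - 1 → Adj A 2 r := fun r hr h =>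
          adj_two_psl3 h2F hp hf1 hF hZ hA hxA hx2 hx hr (hn2 r h) (h.trans (dvd_card_sl le_rfl))
        have h3A : ∀ r s : ℕ, r.Prime → s.Prime → r ≠ s → r ∣ Fintype.card F ^ 2 - 1 → s ∣ Fintype.card F ^ 2 - 1 →
            ¬ r ∣ (Fintype.card F ^ 2 - 1) / Nat.gcd 3 (Fintype.card F - 1) → Adj A r s := by
          intro r s hr hs hrs h1 h2 h3
          obtain ⟨rfl, h31, h9⟩ := eq_three_of_not_dvd hr h1 h2k h3
          have h9' : ¬ 9 ∣ Fintype.card F - 1 := fun h => h9 (h.trans h2k)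
          have hrel : 3 ∣ (Inn P3).relIndex A := by
            by_contra h
            exact hcase ⟨h31, h9', h⟩
          have hD := inndiag_le_of_three hp hf1 hF
            (not_three_dvd_f (p := 2) (by norm_num) (by rw [← hF]; exact h31) (by rw [← hF]; exact h9')) h31 hA hrel
          exact adj_of_inndiag hZ hA hD Nat.prime_three hs hrs h31 (h2.trans (dvd_card_sl le_rfl))
        have h4A : ∀ r s : ℕ, r.Prime → s.Prime → r ≠ s → r ∣ Fintype.card F ^ 2 - 1 → s ∣ Fintype.card F ^ 2 - 1 →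
            Adj A r s := by
          intro r s hr hs hrs h1 h2
          by_cases h3 : r ∣ (Fintype.card F ^ 2 - 1) / Nat.gcd 3 (Fintype.card F - 1)
          · by_cases h4 : s ∣ (Fintype.card F ^ 2 - 1) / Nat.gcd 3 (Fintype.card F - 1)
            · apply adj_A hZ hA
              exact (adj_psl3_iff hp hF).2 (Or.inr (Or.inl
                (Nat.Coprime.mul_dvd_of_dvd_of_dvd ((Nat.coprime_primes hr hs).2 hrs) h3 h4)))
            · exact (h3A s r hs hr hrs.symm h2 h1 h4).symm
          · exact h3A r s hr hs hrs h1 h2 h3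
        refine ⟨fun r => orderOf ((Fintype.card F : ℕ) : ZMod r) = 3, fun r s hr hs' hrs hrA hsA hX => ?_⟩
        by_cases hXr : orderOf ((Fintype.card F : ℕ) : ZMod r) = 3
        · have hXs : orderOf ((Fintype.card F : ℕ) : ZMod s) = 3 := hX.1 hXr
          exact adj_A hZ hA (adj_of_psl_pair hp hf1 hF le_rfl hr hs' hrs hXr hXs (by norm_num) le_rfl le_rfl (Or.inr dvd_rfl))
        · have hXs : ¬ orderOf ((Fintype.card F : ℕ) : ZMod s) = 3 := fun h => hXr (hX.2 h)
          rcases ord_psl3 hp hF hr (hs r hr hrA) with rfl | h1 | h1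
          · rcases ord_psl3 hp hF hs' (hs s hs' hsA) with rfl | h2 | h2
            · exact absurd rfl hrs
            · exact h2A s hs' h2
            · exact absurd h2 hXs
          · rcases ord_psl3 hp hF hs' (hs s hs' hsA) with rfl | h2 | h2
            · exact (h2A r hr h1).symm
            · exact h4A r s hr hs' hrs h1 h2
            · exact absurd h2 hXs
          · exact absurd h1 hXr
  have hγ' : ∀ x ∈ A, orderOf x = 2 → ¬ IsGraphAutClassPSL x := fun x hxA hx h => hγ ⟨x, hxA, hx, h⟩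
  left
  by_cases hu : ∃ x ∈ A, orderOf x = 2 ∧ GfT x
  · obtain ⟨x2, hx2A, hx2, hu⟩ := hu
    have hfe : Even f := (psl_cent_graphField Nat.prime_two hf1 hF (by norm_num) hx2 hu.choose_spec.2.2).1
    obtain ⟨g, hg⟩ := hfe.two_dvd
    have hg1 : 1 ≤ g := by omega
    have hodd : Odd (Nat.gcd 3 (Fintype.card F - 1)) :=
      Odd.of_dvd_nat (by decide : Odd 3) (Nat.gcd_dvd_left 3 _)
    have hφ : ∀ x ∈ A, orderOf x = 2 → ¬ FldT 2 x := by
      intro x hxA hx h
      exact hγ (graph_of_field_gf (by norm_num) hA hodd hxA hx2A h hu)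
    obtain ⟨r', hr', ho', hn', -, hr'2⟩ := exists_rk (p := 2) (f := g) (k := 3) Nat.prime_two hg1 le_rfl (by omega)
    have o' : orderOf ((Fintype.card F : ℕ) : ZMod r') = 3 := by
      rw [hF, hg]
      exact orderOf_sq ho'
    have i' : ∀ y ∈ A, orderOf y = r' → y ∈ Inn P3 := fun y _ hy =>
      psl_inner hp hf1 hF le_rfl hZ hr' o' (by norm_num) (by rw [hg]; exact hn') y hy
    have d' := dvd_psl (F := F) (n := 3) hr' o' (by norm_num) (by norm_num)
    have n' : r2 ≠ r' := by
      rintro rfl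
      omega
    refine ⟨2, r2, r', hp, h2.prime, hr', n22.symm, n', hr'2.symm, dvd_card_A hZ hA h2S, dvd_card_A hZ hA d2,
      dvd_card_A hZ hA d', ?_, ?_, ?_⟩
    · refine psl_not_adj_two hp hf1 hF le_rfl hZ A h2 (by omega) n22 i2 (ii 2 hp (by norm_num)) hγ' (Or.inl hφ)
        (Or.inr ?_) (not_adj_two_psl3 hF h2.prime o2 le_rfl (by norm_num))
      intro _ k hk1 hk2 hcon
      have hfg : f / 2 = g := by omega
      rw [hfg] at hcon
      have h8 : Ppd 2 (g * 4) r2 := by
        have : f * 2 = g * 4 := by omega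
        rwa [this] at h2
      have := order_cases (Nat.one_le_two_pow) h2.prime n22 (h8.orderOf_pow (by omega)) hcon
      rcases this with ⟨h6, h5, -⟩ | ⟨-, h6⟩
      · obtain ⟨j, rfl⟩ := h6
        omega
      · have := Nat.le_of_dvd (by omega) h6
        omega
    · refine not_adj' hZ h2.prime hr' n' i2 i' ?_
      exact (psl_pair_iff hp hf1 hF le_rfl h2.prime hr' n' o2 o' (by norm_num) (by norm_num) le_rfl).2
        ⟨by norm_num, by decide⟩
    · refine psl_not_adj_two hp hf1 hF le_rfl hZ A (r := r') (N := orderOf (2 : ZMod r')) ⟨hr', by norm_cast⟩ ?_ hr'2 i'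
        (ii 2 hp (by norm_num)) hγ' (Or.inl hφ) (Or.inr ?_) (not_adj_two_psl3 hF hr' o' (by norm_num) le_rfl)
      · exact_mod_cast orderOf_pos_of hg1 (by norm_num) ho'
      · intro _ k hk1 hk2 hcon
        have hfg : f / 2 = g := by omega
        rw [hfg] at hcon
        have := order_cases (Nat.one_le_two_pow) hr' hr'2 ho' hcon
        rcases this with ⟨-, h5, h6⟩ | ⟨h5, h6⟩
        · omega
        · obtain ⟨j, rfl⟩ := h5
          omega
  · have hu' : ∀ x ∈ A, orderOf x = 2 → ¬ GfT x := fun x hxA hx h => hu ⟨x, hxA, hx, h⟩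
    refine ⟨2, r2, r3, hp, h2.prime, h3.prime, n22.symm, n23, n32.symm, dvd_card_A hZ hA h2S, dvd_card_A hZ hA d2,
      dvd_card_A hZ hA d3, ?_, not_adj' hZ h2.prime h3.prime n23 i2 i3 a23, ?_⟩
    · refine psl_not_adj_two hp hf1 hF le_rfl hZ A h2 (by omega) n22 i2 (ii 2 hp (by norm_num)) hγ' (Or.inr ?_)
        (Or.inl hu') (not_adj_two_psl3 hF h2.prime o2 le_rfl (by norm_num))
      exact fun h k hk1 hk2 => no_field (m := 2) (n := 3) hf1 h le_rfl (by norm_num) (by omega) hk2 (by norm_num)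
    · refine psl_not_adj_two hp hf1 hF le_rfl hZ A h3 (by omega) n32 i3 (ii 2 hp (by norm_num)) hγ' (Or.inr ?_)
        (Or.inl hu') (not_adj_two_psl3 hF h3.prime o3 (by norm_num) le_rfl)
      exact fun h k hk1 hk2 => no_field (m := 2) (n := 3) hf1 h le_rfl (by norm_num) (by omega) hk2 (by norm_num)

end

theorem mem_of_dvd_prod {r : ℕ} (hr : r.Prime) (l : List ℕ) (hl : ∀ x ∈ l, x.Prime) (h : r ∣ l.prod) : r ∈ l := by
  obtain ⟨x, hx, hd⟩ := (Prime.dvd_prod_iff hr.prime).1 h
  rw [(Nat.prime_dvd_prime_iff_eq hr (hl x hx)).1 hd]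
  exact hx

theorem small_psl3.{a, b} {F : Type a} [Field F] [Fintype F]
    (hZ : Subgroup.center (Matrix.ProjectiveSpecialLinearGroup (Fin 3) F) = ⊥) {p f : ℕ} (hp : p.Prime) (hf : 1 ≤ f)
    (hF : Fintype.card F = p ^ f) (l : List ℕ) (hl : ∀ x ∈ l, x.Prime)
    (hprod : (p ^ f) * ((p ^ f) ^ 2 - 1) * ((p ^ f) ^ 3 - 1) * (6 * f) ∣ l.prod) (P : Finset ℕ) (hP : P.card ≤ 4)
    (hlP : ∀ x ∈ l, x ∈ P) : Goal.{a, b} (Matrix.ProjectiveSpecialLinearGroup (Fin 3) F) := by
  have hfin := finite_psl (F := F) 3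
  have hO := card_out_psl hp hf hF le_rfl hZ
  apply goal_of_primes P hP
  · intro r hr hd
    apply hlP
    apply mem_of_dvd_prod hr l hl
    refine dvd_trans ?_ hprod
    rcases of_dvd_psl (by norm_num) hr hd with h | ⟨k, h1, h2, h3⟩
    · rw [← hF]
      exact ((h.mul_right _).mul_right _).mul_right _
    · have hk : k = 2 ∨ k = 3 := by omega
      rw [hF] at h3
      rcases hk with rfl | rfl
      · exact ((h3.mul_left _).mul_right _).mul_right _
      · exact (h3.mul_left _).mul_right _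
  · intro r hr hd
    apply hlP
    apply mem_of_dvd_prod hr l hl
    refine dvd_trans ?_ hprod
    rw [hO] at hd
    refine hd.trans (Dvd.dvd.mul_left ?_ _)
    rw [show 6 * f = 2 * f * 3 by ring]
    exact Nat.mul_dvd_mul dvd_rfl (Nat.gcd_dvd_left 3 _)

theorem goal_psl3.{a, b} {F : Type a} [Field F] [Fintype F]
    (hZ : Subgroup.center (Matrix.ProjectiveSpecialLinearGroup (Fin 3) F) = ⊥) :
    Goal.{a, b} (Matrix.ProjectiveSpecialLinearGroup (Fin 3) F) := by
  obtain ⟨p, f, hp, hf, hF⟩ := (isPrimePow_nat_iff _).1 (Fintype.isPrimePow_card_of_field (α := F))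
  have hF := hF.symm
  by_cases hp2 : p = 2
  · subst hp2
    by_cases hf2 : 4 ≤ f
    · exact goal_of_goalA (goalA_psl3_two hf2 hF hZ)
    · have hf3 : f = 1 ∨ f = 2 ∨ f = 3 := by omega
      rcases hf3 with rfl | rfl | rfl
      · exact small_psl3 hZ hp hf hF [2, 3, 7, 2, 3] (by
          intro x hx
          simp only [List.mem_cons, List.not_mem_nil, or_false] at hx
          rcases hx with rfl | rfl | rfl | rfl | rfl <;> norm_num) (by decide) {2, 3, 7} (by decide) (by decide)
      · exact small_psl3 hZ hp hf hF [2, 2, 3, 5, 3, 3, 7, 2, 2, 3] (by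
          intro x hx
          simp only [List.mem_cons, List.not_mem_nil, or_false] at hx
          rcases hx with rfl | rfl | rfl | rfl | rfl | rfl | rfl | rfl | rfl | rfl <;> norm_num)
          (by norm_num) {2, 3, 5, 7} (by decide) (by decide)
      · exact small_psl3 hZ hp hf hF [2, 2, 2, 3, 3, 7, 7, 73, 2, 3, 3] (by
          intro x hx
          simp only [List.mem_cons, List.not_mem_nil, or_false] at hx
          rcases hx with rfl | rfl | rfl | rfl | rfl | rfl | rfl | rfl | rfl | rfl | rfl <;> norm_num)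
          (by norm_num) {2, 3, 7, 73} (by decide) (by decide)
  · by_cases hf2 : 2 ≤ f
    · obtain ⟨r2, h2⟩ := Ppd.exists (p := p) (n := f * 2) hp.two_le (by omega) (fun h => hp2 h.1)
      exact goal_of_goalA fun A hA => Or.inl (has3_psl3_odd hp hf hF hp2 hZ hA h2)
    · have hf1 : f = 1 := by omega
      subst hf1
      by_cases hM : ∃ k, p + 1 = 2 ^ k
      · obtain ⟨k, hk⟩ := hM
        by_cases hp7 : 7 < p
        · exact goal_of_goalA (goalA_psl3_mersenne hp hF hp2 hp7 hk hZ)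
        · have hk3 : k ≤ 3 := by
            by_contra hcon
            have : 2 ^ 4 ≤ 2 ^ k := Nat.pow_le_pow_right (by norm_num) (by omega)
            omega
          have h2p := hp.two_le
          have hp37 : p = 3 ∨ p = 7 := by
            interval_cases k <;> omega
          rcases hp37 with rfl | rfl
          · exact small_psl3 hZ hp hf hF [3, 2, 2, 2, 2, 13, 2, 3] (by
              intro x hx
              simp only [List.mem_cons, List.not_mem_nil, or_false] at hx
              rcases hx with rfl | rfl | rfl | rfl | rfl | rfl | rfl | rfl <;> norm_num)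
              (by norm_num) {2, 3, 13} (by decide) (by decide)
          · exact small_psl3 hZ hp hf hF [7, 2, 2, 2, 2, 3, 2, 3, 3, 19, 2, 3] (by
              intro x hx
              simp only [List.mem_cons, List.not_mem_nil, or_false] at hx
              rcases hx with rfl | rfl | rfl | rfl | rfl | rfl | rfl | rfl | rfl | rfl | rfl | rfl <;> norm_num)
              (by norm_num) {2, 3, 7, 19} (by decide) (by decide)
      · obtain ⟨r2, h2⟩ := Ppd.exists_two hp.two_le hM
        exact goal_of_goalA fun A hA => Or.inl (has3_psl3_odd hp hf hF hp2 hZ hA (by rwa [one_mul]))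

end Cfsg.Agent.H163.PG
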