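import Mathlib
import Cfsg.Agent.H163.PG.Base

/-!
# A metabelian group with prescribed prime graph (complement bipartite)
-/

set_option autoImplicit false

namespace Cfsg.Agent.H163.PG

open Finset

section construct

variable (A B : Finset ℕ) (R : ℕ → ℕ → Prop)

open Classical in
/-- the product of the primes of `A` which shall act fixed-point-freely at `b` -/
noncomputable def Mb (b : ℕ) : ℕ := ∏ a ∈ A.filter (fun a => ¬ R a b), a

/-- the product of the primes of `A` -/
def MM : ℕ := ∏ a ∈ A, a

variable {A B R}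

theorem Mb_dvd (b : ℕ) : Mb A R b ∣ MM A := by
  classical
  exact Finset.prod_dvd_prod_of_subset _ _ _ (Finset.filter_subset _ _)

theorem MM_pos (hA : ∀ a ∈ A, a.Prime) : 0 < MM A := Finset.prod_pos fun a ha => (hA a ha).pos

theorem Mb_pos (hA : ∀ a ∈ A, a.Prime) (b : ℕ) : 0 < Mb A R b := by
  classical
  exact Finset.prod_pos fun a ha => (hA a (Finset.mem_filter.1 ha).1).pos

theorem dvd_MM_iff (hA : ∀ a ∈ A, a.Prime) {p : ℕ} (hp : p.Prime) : p ∣ MM A ↔ p ∈ A := by
  constructor
  · intro h
    obtain ⟨a, ha, hpa⟩ := (Nat.Prime.prime hp).exists_mem_finset_dvd h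
    rwa [(Nat.prime_dvd_prime_iff_eq hp (hA a ha)).1 hpa]
  · exact Finset.dvd_prod_of_mem _

theorem dvd_Mb_iff (hA : ∀ a ∈ A, a.Prime) {p : ℕ} (hp : p.Prime) {b : ℕ} :
    p ∣ Mb A R b ↔ p ∈ A ∧ ¬ R p b := by
  classical
  constructor
  · intro h
    obtain ⟨a, ha, hpa⟩ := (Nat.Prime.prime hp).exists_mem_finset_dvd h
    rw [Finset.mem_filter] at ha
    rwa [(Nat.prime_dvd_prime_iff_eq hp (hA a ha.1)).1 hpa]
  · intro h
    exact Finset.dvd_prod_of_mem _ (Finset.mem_filter.2 h)

theorem squarefree_MM (hA : ∀ a ∈ A, a.Prime) : Squarefree (MM A) := by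
  classical
  induction A using Finset.induction_on with
  | empty => simp [MM]
  | insert a s has ih =>
    have h1 := ih (fun x hx => hA x (Finset.mem_insert_of_mem hx))
    have h2 : MM (insert a s) = a * MM s := Finset.prod_insert has
    rw [h2, Nat.squarefree_mul_iff]
    refine ⟨?_, (hA a (Finset.mem_insert_self _ _)).prime.squarefree, h1⟩
    rw [Nat.Prime.coprime_iff_not_dvd (hA a (Finset.mem_insert_self _ _)), dvd_MM_iff]
    · exact has
    · exact fun x hx => hA x (Finset.mem_insert_of_mem hx)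
    · exact hA a (Finset.mem_insert_self _ _)

/-- a field of characteristic `b` with a unit of order `M` -/
theorem exists_unit {b M : ℕ} [Fact b.Prime] (hM : 0 < M) (hb : b.Coprime M) :
    ∃ z : (GaloisField b (Nat.totient M))ˣ, orderOf z = M := by
  have ht : Nat.totient M ≠ 0 := (Nat.totient_pos.2 hM).ne'
  obtain ⟨g, hg⟩ := IsCyclic.exists_ofOrder_eq_natCard (α := (GaloisField b (Nat.totient M))ˣ)
  have hc : Nat.card (GaloisField b (Nat.totient M))ˣ = b ^ (Nat.totient M) - 1 := by
    rw [Nat.card_units, GaloisField.card b _ ht]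
  have hd : M ∣ b ^ (Nat.totient M) - 1 := by
    have h1 := Nat.ModEq.pow_totient hb
    exact (Nat.modEq_iff_dvd' (Nat.one_le_pow _ _ (Fact.out : b.Prime).pos)).1 h1.symm
  have hpos : 0 < Nat.card (GaloisField b (Nat.totient M))ˣ := Nat.card_pos
  obtain ⟨k, hk⟩ := hd
  rw [hc, hk] at hg
  rw [hc, hk] at hpos
  have hk0 : k ≠ 0 := by
    rintro rfl
    simp at hpos
  refine ⟨g ^ k, ?_⟩
  rw [orderOf_pow' g hk0, hg, Nat.gcd_eq_right (Dvd.intro_left _ rfl), Nat.mul_div_cancel _ (Nat.pos_of_ne_zero hk0)]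

/-- a homomorphism from a cyclic group of order `M` with prescribed image of the generator -/
theorem exists_hom {M : ℕ} {U : Type*} [CommGroup U] {z : U} (hz : z ^ M = 1) :
    ∃ f : Multiplicative (ZMod M) →* U, ∀ k : ℤ, f (Multiplicative.ofAdd (k : ZMod M)) = z ^ k := by
  let g : ℤ →+ Additive U := zmultiplesHom (Additive U) (Additive.ofMul z)
  have hg : g M = 0 := by
    show (M : ℤ) • Additive.ofMul z = 0
    rw [natCast_zsmul, ← ofMul_pow, hz, ofMul_one]
  let f := ZMod.lift M ⟨g, hg⟩
  refine ⟨AddMonoidHom.toMultiplicativeLeft f, fun k => ?_⟩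
  show (f (k : ZMod M)).toMul = z ^ k
  rw [ZMod.lift_coe]
  show (k • Additive.ofMul z).toMul = z ^ k
  rw [← ofMul_zpow, toMul_ofMul]

end construct

section group

variable {ι : Type} (K : ι → Type) [∀ i, Field (K i)]

/-- coordinatewise multiplication by units -/
def actHom : (∀ i, (K i)ˣ) →* MulAut (Multiplicative (∀ i, K i)) where
  toFun u :=
    { toFun := fun v => Multiplicative.ofAdd (fun i => (u i : K i) * v.toAdd i)
      invFun := fun v => Multiplicative.ofAdd (fun i => ((u i)⁻¹ : (K i)ˣ) * v.toAdd i)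
      left_inv := fun v => by
        apply Multiplicative.toAdd.injective
        funext i
        simp
      right_inv := fun v => by
        apply Multiplicative.toAdd.injective
        funext i
        simp
      map_mul' := fun v w => by
        apply Multiplicative.toAdd.injective
        funext i
        simp [mul_add] }
  map_one' := by
    ext v
    simp
  map_mul' u w := by
    apply MulEquiv.ext
    intro v
    apply Multiplicative.toAdd.injective
    funext i
    show ((u i * w i : (K i)ˣ) : K i) * v.toAdd i = (u i : K i) * ((w i : K i) * v.toAdd i)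
    rw [Units.val_mul, mul_assoc]

theorem actHom_apply (u : ∀ i, (K i)ˣ) (v : Multiplicative (∀ i, K i)) (i : ι) :
    (actHom K u v).toAdd i = (u i : K i) * v.toAdd i := rfl

variable {K} {M : ℕ} (χ : ∀ i, Multiplicative (ZMod M) →* (K i)ˣ)

/-- the metabelian group -/
abbrev HH := Multiplicative (∀ i, K i) ⋊[(actHom K).comp (MonoidHom.pi χ)] Multiplicative (ZMod M)

theorem card_HH [Finite ι] [∀ i, Finite (K i)] [NeZero M] : Nat.card (HH χ) = (Nat.card (∀ i, K i)) * M := by
  rw [Nat.card_congr SemidirectProduct.equivProd, Nat.card_prod]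
  congr 1
  rw [Nat.card_congr Multiplicative.toAdd, Nat.card_zmod]

theorem isSolvable_HH : Group.IsSolvable (HH χ) := by
  apply Group.isSolvable_of_ker_le_range (SemidirectProduct.inl : _ →* HH χ)
    (SemidirectProduct.rightHom : HH χ →* _)
  rw [SemidirectProduct.range_inl_eq_ker_rightHom]

/-- conjugation formula -/
theorem comm_iff {c : HH χ} {v : Multiplicative (∀ i, K i)} :
    c * SemidirectProduct.inl v = SemidirectProduct.inl v * c ↔
      ∀ i, (χ i c.right : K i) * v.toAdd i = v.toAdd i := by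
  have h1 : c * SemidirectProduct.inl v = SemidirectProduct.inl v * c ↔
      ((actHom K).comp (MonoidHom.pi χ)) c.right v = v := by
    constructor
    · intro h
      have h2 := congrArg SemidirectProduct.left h
      rw [SemidirectProduct.mul_left, SemidirectProduct.mul_left, SemidirectProduct.left_inl,
        SemidirectProduct.right_inl, map_one, MulAut.one_apply, mul_comm v] at h2
      exact mul_left_cancel h2
    · intro h
      apply SemidirectProduct.ext
      · rw [SemidirectProduct.mul_left, SemidirectProduct.mul_left, SemidirectProduct.left_inl,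
          SemidirectProduct.right_inl, map_one, MulAut.one_apply, mul_comm v, h]
      · rw [SemidirectProduct.mul_right, SemidirectProduct.mul_right, SemidirectProduct.right_inl, mul_one, one_mul]
  rw [h1]
  constructor
  · intro h i
    have h2 := congrFun (congrArg Multiplicative.toAdd h) i
    exact h2
  · intro h
    apply Multiplicative.toAdd.injective
    funext i
    exact h i

end group

section main

variable {A B : Finset ℕ} {R : ℕ → ℕ → Prop}

set_option maxHeartbeats 1000000 in
theorem exists_solvable_aux (hA : ∀ a ∈ A, a.Prime) (hB : ∀ b ∈ B, b.Prime) (hAB : Disjoint A B)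
    (M : ℕ) (hMM : M = MM A) [NeZero M]
    (K : B → Type) [iK : ∀ b, Field (K b)] [hfinK : ∀ b, Finite (K b)] [hch : ∀ b : B, CharP (K b) (b : ℕ)]
    (tt : B → ℕ) (htt : ∀ b, tt b ≠ 0) (hcK : ∀ b : B, Nat.card (K b) = (b : ℕ) ^ tt b)
    (z : ∀ b, (K b)ˣ) (hz' : ∀ b : B, orderOf (z b) = Mb A R b) :
    ∃ (H : Type) (_ : Group H) (_ : Finite H), Group.IsSolvable H ∧
      (∀ p : ℕ, p.Prime → (p ∣ Nat.card H ↔ p ∈ A ∨ p ∈ B)) ∧
      (∀ p q : ℕ, p.Prime → q.Prime → p ≠ q → p ∈ A → q ∈ A → Adj H p q) ∧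
      (∀ p q : ℕ, p.Prime → q.Prime → p ≠ q → p ∈ B → q ∈ B → Adj H p q) ∧
      (∀ a b : ℕ, a.Prime → b.Prime → a ∈ A → b ∈ B → (Adj H a b ↔ R a b)) := by
  classical
  have hz : ∀ b : B, Mb A R b = orderOf (z b) := fun b => (hz' b).symm
  have hM : 0 < M := Nat.pos_of_ne_zero (NeZero.ne M)
  have hcop : ∀ b : B, Nat.Coprime (b : ℕ) M := by
    intro b
    rw [Nat.Prime.coprime_iff_not_dvd (hB b b.2), hMM, dvd_MM_iff hA (hB b b.2)]
    intro hbA
    exact (Finset.disjoint_left.1 hAB hbA b.2)
  have hhom : ∀ b : B, ∃ f : Multiplicative (ZMod M) →* (K b)ˣ,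
      ∀ k : ℤ, f (Multiplicative.ofAdd (k : ZMod M)) = z b ^ k := fun b => exists_hom (by
    obtain ⟨t, ht⟩ := Mb_dvd (A := A) (R := R) b
    rw [hMM, ht, pow_mul, hz b, pow_orderOf_eq_one, one_pow])
  choose χ hχ using hhom
  have hcV : Nat.card (∀ b, K b) = ∏ b : B, (b : ℕ) ^ tt b := by
    rw [Nat.card_pi]
    exact Finset.prod_congr rfl (fun b _ => hcK b)
  have hcard := card_HH χ
  have hdvdV : ∀ p : ℕ, p.Prime → (p ∣ Nat.card (∀ b, K b) ↔ p ∈ B) := by
    intro p hp
    rw [hcV]
    constructor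
    · intro h
      obtain ⟨b, -, hb⟩ := (Nat.Prime.prime hp).exists_mem_finset_dvd h
      have h1 := (Nat.prime_dvd_prime_iff_eq hp (hB b b.2)).1 (hp.dvd_of_dvd_pow hb)
      rw [h1]; exact b.2
    · intro h
      have h1 : p ∣ p ^ tt ⟨p, h⟩ := dvd_pow_self p (htt ⟨p, h⟩)
      exact h1.trans (Finset.dvd_prod_of_mem (fun b : B => (b : ℕ) ^ tt b) (Finset.mem_univ (⟨p, h⟩ : B)))
  have hfin : Finite (HH χ) := Finite.of_equiv _ SemidirectProduct.equivProd.symm
  have hcardiff : ∀ p : ℕ, p.Prime → (p ∣ Nat.card (HH χ) ↔ p ∈ A ∨ p ∈ B) := by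
    intro p hp
    rw [hcard, hp.dvd_mul, hdvdV p hp, hMM, dvd_MM_iff hA hp, or_comm]
  refine ⟨HH χ, inferInstance, hfin, isSolvable_HH χ, hcardiff, ?_, ?_, ?_⟩
  · -- both in A
    intro p q hp hq hpq hpA hqA
    have hd : p * q ∣ M :=
      ((Nat.coprime_primes hp hq).2 hpq).mul_dvd_of_dvd_of_dvd (hMM ▸ (dvd_MM_iff hA hp).2 hpA)
        (hMM ▸ (dvd_MM_iff hA hq).2 hqA)
    have h1 : orderOf (Multiplicative.ofAdd (1 : ZMod M)) = M := by
      rw [orderOf_ofAdd_eq_addOrderOf, ZMod.addOrderOf_one]
    have h2 : Adj (Multiplicative (ZMod M)) p q :=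
      adj_of_dvd (g := Multiplicative.ofAdd (1 : ZMod M)) (by rw [h1]; exact hM.ne') (by rw [h1]; exact hd)
    exact h2.of_injective SemidirectProduct.inr SemidirectProduct.inr_injective
  · -- both in B
    intro p q hp hq hpq hpB hqB
    have : Fact p.Prime := ⟨hp⟩
    have : Fact q.Prime := ⟨hq⟩
    have h0 : Nat.card (Multiplicative (∀ b, K b)) = Nat.card (∀ b, K b) := Nat.card_congr Multiplicative.toAdd
    have : Finite (Multiplicative (∀ b, K b)) := Finite.of_equiv (∀ b, K b) Multiplicative.ofAdd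
    obtain ⟨x, hx⟩ := exists_prime_orderOf_dvd_card' (G := Multiplicative (∀ b, K b)) p (by
      rw [h0]; exact (hdvdV p hp).2 hpB)
    obtain ⟨y, hy⟩ := exists_prime_orderOf_dvd_card' (G := Multiplicative (∀ b, K b)) q (by
      rw [h0]; exact (hdvdV q hq).2 hqB)
    have h2 : Adj (Multiplicative (∀ b, K b)) p q := adj_of_commute hp hq hpq hx hy (mul_comm x y)
    exact h2.of_injective SemidirectProduct.inl SemidirectProduct.inl_injective
  · intro a b ha hb haA hbB
    have hab : a ≠ b := fun h => Finset.disjoint_left.1 hAB haA (h ▸ hbB)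
    constructor
    · intro hadj
      by_contra hR
      obtain ⟨x, y, hx, hy, hxy⟩ := hadj.exists_commute ha hb
      -- y lies in V
      have hy1 : y.right = 1 := by
        have h1 : (SemidirectProduct.rightHom y) ^ b = (1 : Multiplicative (ZMod M)) := by
          rw [← map_pow, ← hy, pow_orderOf_eq_one, map_one]
        have h2 : (SemidirectProduct.rightHom y) ^ M = (1 : Multiplicative (ZMod M)) := by
          have := pow_card_eq_one' (x := (SemidirectProduct.rightHom y : Multiplicative (ZMod M)))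
          rwa [Nat.card_congr Multiplicative.toAdd, Nat.card_zmod] at this
        have h3 : orderOf (SemidirectProduct.rightHom y : Multiplicative (ZMod M)) ∣ 1 := by
          rw [← hcop ⟨b, hbB⟩]
          exact Nat.dvd_gcd (orderOf_dvd_of_pow_eq_one h1) (orderOf_dvd_of_pow_eq_one h2)
        exact orderOf_eq_one_iff.1 (Nat.dvd_one.1 h3)
      have hyl : y = SemidirectProduct.inl y.left := by
        apply SemidirectProduct.ext
        · rw [SemidirectProduct.left_inl]
        · rw [SemidirectProduct.right_inl, hy1]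
      rw [hyl, comm_iff] at hxy
      -- x is not in V
      have hx1 : x.right ^ a = 1 := by
        have h1 : (SemidirectProduct.rightHom x) ^ a = (1 : Multiplicative (ZMod M)) := by
          rw [← map_pow, ← hx, pow_orderOf_eq_one, map_one]
        exact h1
      have hx2 : x.right ≠ 1 := by
        intro h
        have hxl : x = SemidirectProduct.inl x.left := by
          apply SemidirectProduct.ext
          · rw [SemidirectProduct.left_inl]
          · rw [SemidirectProduct.right_inl, h]
        have h1 : orderOf x.left = a := by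
          rw [← hx, hxl]
          exact (orderOf_injective _ SemidirectProduct.inl_injective _).symm
        have h2 : a ∣ Nat.card (∀ b, K b) := by
          have h3 : orderOf x.left ∣ Nat.card (Multiplicative (∀ b, K b)) := orderOf_dvd_natCard _
          rw [h1, Nat.card_congr Multiplicative.toAdd] at h3
          exact h3
        exact Finset.disjoint_left.1 hAB haA ((hdvdV a ha).1 h2)
      -- the coordinate at b of y is non zero
      have hyb : y.left.toAdd ⟨b, hbB⟩ ≠ 0 := by
        intro h0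
        have h1 : y ^ b = 1 := by rw [← hy, pow_orderOf_eq_one]
        have h2 : y.left ^ b = 1 := by
          apply SemidirectProduct.inl_injective (φ := (actHom K).comp (MonoidHom.pi χ))
          rw [map_pow, map_one, ← hyl]
          exact h1
        have h3 : ∀ i, (b : ℕ) • (y.left.toAdd i) = 0 := by
          intro i
          exact congrFun (congrArg Multiplicative.toAdd h2) i
        have h4 : y.left = 1 := by
          apply Multiplicative.toAdd.injective
          funext i
          show y.left.toAdd i = 0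
          by_cases hi : i = ⟨b, hbB⟩
          · rw [hi, h0]
          · have h5 := h3 i
            rw [nsmul_eq_mul] at h5
            rcases mul_eq_zero.1 h5 with h6 | h6
            · exfalso
              rw [CharP.cast_eq_zero_iff (K i) (i : ℕ)] at h6
              apply hi
              exact Subtype.ext ((Nat.prime_dvd_prime_iff_eq (hB i i.2) hb).1 h6)
            · exact h6
        have h5 : y = 1 := by rw [hyl, h4, map_one]
        rw [h5, orderOf_one] at hy
        exact hb.one_lt.ne hy
      have h6 : χ ⟨b, hbB⟩ x.right = 1 := by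
        have h7 := hxy ⟨b, hbB⟩
        exact Units.ext (mul_right_cancel₀ hyb (h7.trans (one_mul _).symm))
      -- write x.right as a power of the generator
      obtain ⟨k, hk⟩ : ∃ k : ℤ, x.right = Multiplicative.ofAdd (k : ZMod M) :=
        ⟨((x.right.toAdd : ZMod M).val : ℤ), by
          apply Multiplicative.toAdd.injective
          simp⟩
      rw [hk, hχ] at h6
      have h8 : ((Mb A R b : ℕ) : ℤ) ∣ k := by
        rw [hz ⟨b, hbB⟩]
        exact orderOf_dvd_iff_zpow_eq_one.2 h6
      have h9 : (M : ℤ) ∣ k * a := by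
        have h10 : (Multiplicative.ofAdd (k : ZMod M)) ^ a = 1 := by rw [← hk]; exact hx1
        have h11 : ((k * a : ℤ) : ZMod M) = 0 := by
          have h12 := congrArg Multiplicative.toAdd h10
          rw [toAdd_pow, toAdd_ofAdd, toAdd_one, nsmul_eq_mul] at h12
          push_cast
          rw [mul_comm]
          exact h12
        exact (ZMod.intCast_zmod_eq_zero_iff_dvd _ _).1 h11
      have h13 : (a : ℤ) ∣ k :=
        (Int.natCast_dvd_natCast.2 ((dvd_Mb_iff hA ha).2 ⟨haA, hR⟩)).trans h8
      obtain ⟨N, hN⟩ : a ∣ M := hMM ▸ (dvd_MM_iff hA ha).2 haA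
      have hcopN : Nat.Coprime a N := by
        have := squarefree_MM hA
        rw [show MM A = a * N from hMM.symm.trans hN, Nat.squarefree_mul_iff] at this
        exact this.1
      have h14 : (N : ℤ) ∣ k := by
        rw [hN] at h9
        push_cast at h9
        rw [mul_comm (a : ℤ)] at h9
        exact Int.dvd_of_mul_dvd_mul_right (by exact_mod_cast ha.ne_zero) h9
      have h15 : (M : ℤ) ∣ k := by
        rw [hN]
        push_cast
        exact IsCoprime.mul_dvd (Nat.isCoprime_iff_coprime.2 hcopN) h13 h14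
      apply hx2
      rw [hk]
      have h16 : ((k : ℤ) : ZMod M) = 0 := (ZMod.intCast_zmod_eq_zero_iff_dvd _ _).2 h15
      rw [h16]
      rfl
    · intro hR
      -- an element of order a acting trivially on the b-part
      obtain ⟨N, hN⟩ : a ∣ M := hMM ▸ (dvd_MM_iff hA ha).2 haA
      have hN0 : N ≠ 0 := by
        rintro rfl
        rw [mul_zero] at hN
        exact hM.ne' hN
      let c : Multiplicative (ZMod M) := Multiplicative.ofAdd ((N : ℤ) : ZMod M)
      have hc : orderOf c = a := by
        have h1 : orderOf (Multiplicative.ofAdd (1 : ZMod M)) = M := by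
          rw [orderOf_ofAdd_eq_addOrderOf, ZMod.addOrderOf_one]
        have h2 : c = (Multiplicative.ofAdd (1 : ZMod M)) ^ N := by
          apply Multiplicative.toAdd.injective
          show ((N : ℤ) : ZMod M) = N • (1 : ZMod M)
          simp
        rw [h2, orderOf_pow' _ hN0, h1, hN, Nat.gcd_eq_right (Dvd.intro_left _ rfl),
          Nat.mul_div_cancel _ (Nat.pos_of_ne_zero hN0)]
      have hMbN : Mb A R b ∣ N := by
        have h1 : Mb A R b ∣ a * N := by rw [← hN, hMM]; exact Mb_dvd b
        apply Nat.Coprime.dvd_of_dvd_mul_left _ h1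
        rw [Nat.coprime_comm, Nat.Prime.coprime_iff_not_dvd ha, dvd_Mb_iff hA ha]
        intro h
        exact h.2 hR
      have hχc : χ ⟨b, hbB⟩ c = 1 := by
        show χ ⟨b, hbB⟩ (Multiplicative.ofAdd ((N : ℤ) : ZMod M)) = 1
        rw [hχ, zpow_natCast]
        obtain ⟨t, ht⟩ := hMbN
        rw [ht, pow_mul, hz ⟨b, hbB⟩, pow_orderOf_eq_one, one_pow]
      let v : Multiplicative (∀ b, K b) := Multiplicative.ofAdd (Pi.single ⟨b, hbB⟩ 1)
      have hv : orderOf v = b := by
        have : Fact b.Prime := ⟨hb⟩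
        apply orderOf_eq_prime
        · apply Multiplicative.toAdd.injective
          show b • (Pi.single (⟨b, hbB⟩ : B) (1 : K ⟨b, hbB⟩) : ∀ b, K b) = 0
          have : CharP (K ⟨b, hbB⟩) b := hch ⟨b, hbB⟩
          rw [← Pi.single_smul, nsmul_eq_mul, CharP.cast_eq_zero, zero_mul, Pi.single_zero]
        · intro h
          have h1 := congrFun (congrArg Multiplicative.toAdd h) (⟨b, hbB⟩ : B)
          have h2 : (Pi.single (⟨b, hbB⟩ : B) (1 : K ⟨b, hbB⟩) : ∀ b, K b) ⟨b, hbB⟩ = 0 := h1
          rw [Pi.single_eq_same] at h2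
          exact one_ne_zero h2
      apply adj_of_commute ha hb hab (x := SemidirectProduct.inr c) (y := SemidirectProduct.inl v)
      · rw [orderOf_injective _ SemidirectProduct.inr_injective, hc]
      · rw [orderOf_injective _ SemidirectProduct.inl_injective, hv]
      · rw [comm_iff]
        intro i
        rw [SemidirectProduct.right_inr]
        by_cases hi : i = ⟨b, hbB⟩
        · rw [hi, hχc, Units.val_one, one_mul]
        · have : v.toAdd i = 0 := by
            show (Pi.single (⟨b, hbB⟩ : B) (1 : K ⟨b, hbB⟩) : ∀ b, K b) i = 0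
            rw [Pi.single_eq_of_ne hi]
          rw [this, mul_zero]

theorem exists_solvable (hA : ∀ a ∈ A, a.Prime) (hB : ∀ b ∈ B, b.Prime) (hAB : Disjoint A B) :
    ∃ (H : Type) (_ : Group H) (_ : Finite H), Group.IsSolvable H ∧
      (∀ p : ℕ, p.Prime → (p ∣ Nat.card H ↔ p ∈ A ∨ p ∈ B)) ∧
      (∀ p q : ℕ, p.Prime → q.Prime → p ≠ q → p ∈ A → q ∈ A → Adj H p q) ∧
      (∀ p q : ℕ, p.Prime → q.Prime → p ≠ q → p ∈ B → q ∈ B → Adj H p q) ∧
      (∀ a b : ℕ, a.Prime → b.Prime → a ∈ A → b ∈ B → (Adj H a b ↔ R a b)) := by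
  have h : ∀ b : B, ∃ (K : Type) (_ : Field K) (_ : Finite K) (_ : CharP K (b : ℕ)) (t : ℕ) (_ : t ≠ 0)
      (_ : Nat.card K = (b : ℕ) ^ t), ∃ z : Kˣ, orderOf z = Mb A R b := by
    intro b
    have : Fact ((b : ℕ)).Prime := ⟨hB b b.2⟩
    have hcop : Nat.Coprime (b : ℕ) (MM A) := by
      rw [Nat.Prime.coprime_iff_not_dvd (hB b b.2), dvd_MM_iff hA (hB b b.2)]
      intro hbA
      exact (Finset.disjoint_left.1 hAB hbA b.2)
    have ht : Nat.totient (Mb A R b) ≠ 0 := (Nat.totient_pos.2 (Mb_pos hA b)).ne'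
    exact ⟨GaloisField (b : ℕ) (Nat.totient (Mb A R b)), inferInstance, inferInstance, inferInstance,
      Nat.totient (Mb A R b), ht, GaloisField.card _ _ ht,
      exists_unit (Mb_pos hA b) (hcop.coprime_dvd_right (Mb_dvd _))⟩
  choose K i1 i2 i3 t ht hc z hz using h
  have : NeZero (MM A) := ⟨(MM_pos hA).ne'⟩
  exact exists_solvable_aux hA hB hAB (MM A) rfl K t ht hc z hz

end main

/-- A group whose primes are covered by two cliques has the prime graph of a solvable group. -/
theorem Cov.exists_solvable {G : Type*} [Group G] [Finite G] (h : Cov G) :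
    ∃ (H : Type) (_ : Group H) (_ : Finite H), Group.IsSolvable H ∧
      ((∀ p : ℕ, p.Prime → (p ∣ Nat.card G ↔ p ∣ Nat.card H)) ∧
      (∀ p q : ℕ, p.Prime → q.Prime → p ≠ q → ((∃ g : G, orderOf g = p * q) ↔ (∃ g : H, orderOf g = p * q)))) := by
  classical
  obtain ⟨X, hX⟩ := h
  let A : Finset ℕ := (Nat.card G).primeFactors.filter (fun p => X p)
  let B : Finset ℕ := (Nat.card G).primeFactors.filter (fun p => ¬ X p)
  have hG : Nat.card G ≠ 0 := Nat.card_pos.ne'
  have hAm : ∀ p : ℕ, p ∈ A ↔ (p.Prime ∧ p ∣ Nat.card G) ∧ X p := by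
    intro p
    simp only [A, Finset.mem_filter, Nat.mem_primeFactors_of_ne_zero hG]
  have hBm : ∀ p : ℕ, p ∈ B ↔ (p.Prime ∧ p ∣ Nat.card G) ∧ ¬ X p := by
    intro p
    simp only [B, Finset.mem_filter, Nat.mem_primeFactors_of_ne_zero hG]
  obtain ⟨H, i1, i2, hs, h1, h2, h3, h4⟩ := PG.exists_solvable (A := A) (B := B) (R := fun a b => Adj G a b)
    (fun a ha => ((hAm a).1 ha).1.1) (fun b hb => ((hBm b).1 hb).1.1) (by
      rw [Finset.disjoint_left]
      intro a ha hb
      exact ((hBm a).1 hb).2 ((hAm a).1 ha).2)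
  have hd : ∀ p : ℕ, p.Prime → (p ∣ Nat.card G ↔ p ∣ Nat.card H) := by
    intro p hp
    rw [h1 p hp, hAm, hBm]
    tauto
  refine ⟨H, i1, i2, hs, hd, ?_⟩
  intro p q hp hq hpq
  by_cases hpG : p ∣ Nat.card G
  · by_cases hqG : q ∣ Nat.card G
    · by_cases hpX : X p <;> by_cases hqX : X q
      · have e1 : Adj G p q := hX p q hp hq hpq hpG hqG (by tauto)
        have e2 : Adj H p q := h2 p q hp hq hpq ((hAm p).2 ⟨⟨hp, hpG⟩, hpX⟩) ((hAm q).2 ⟨⟨hq, hqG⟩, hqX⟩)
        exact ⟨fun _ => e2, fun _ => e1⟩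
      · exact (h4 p q hp hq ((hAm p).2 ⟨⟨hp, hpG⟩, hpX⟩) ((hBm q).2 ⟨⟨hq, hqG⟩, hqX⟩)).symm
      · have e := h4 q p hq hp ((hAm q).2 ⟨⟨hq, hqG⟩, hqX⟩) ((hBm p).2 ⟨⟨hp, hpG⟩, hpX⟩)
        have e3 : Adj G p q ↔ Adj H p q := by
          rw [adj_comm (G := G), adj_comm (G := H)]
          exact e.symm
        exact e3
      · have e1 : Adj G p q := hX p q hp hq hpq hpG hqG (by tauto)
        have e2 : Adj H p q := h3 p q hp hq hpq ((hBm p).2 ⟨⟨hp, hpG⟩, hpX⟩) ((hBm q).2 ⟨⟨hq, hqG⟩, hqX⟩)
        exact ⟨fun _ => e2, fun _ => e1⟩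
    · constructor
      · rintro ⟨g, hg⟩
        exact absurd ((Dvd.intro_left p hg.symm).trans (orderOf_dvd_natCard g)) hqG
      · rintro ⟨g, hg⟩
        exact absurd ((hd q hq).2 ((Dvd.intro_left p hg.symm).trans (orderOf_dvd_natCard g))) hqG
  · constructor
    · rintro ⟨g, hg⟩
      exact absurd ((Dvd.intro q hg.symm).trans (orderOf_dvd_natCard g)) hpG
    · rintro ⟨g, hg⟩
      exact absurd ((hd p hp).2 ((Dvd.intro q hg.symm).trans (orderOf_dvd_natCard g))) hpG

end Cfsg.Agent.H163.PG
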