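import Mathlib
import Cfsg.Prelude.Def_Classification2
import Cfsg.Agent.H163.PG.Realize
import Cfsg.Agent.H163.PG.PspN
import Cfsg.Agent.H163.PG.L3Fin
import Cfsg.Agent.H163.PG.L4Fin
import Cfsg.Agent.H149.PGUGoal
import Cfsg.Agent.H149.PGOGoal
import Cfsg.Agent.H171.AltGoal
import Cfsg.Agent.H171.PGL2Goal
import Cfsg.Agent.H169.ExcAll
import Cfsg.Agent.S3633

/-!
# Assembly of the prime graph theorem for almost simple groups (S2529)
-/

set_option autoImplicit false

namespace Cfsg.Agent.H163.PG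

open Cfsg

universe u v

/-- the goal for the family `PSp_4(q)`, `q ≥ 3` -/
def GoalS4.{b} : Prop :=
  ∀ (F : Type) [Field F] [Fintype F], 3 ≤ Fintype.card F → Subgroup.center (PSp 2 F) = ⊥ → Goal.{0, b} (PSp 2 F)

/-- the goal for the family `PSU_3(q)`, `q ≥ 3` -/
def GoalU3.{b} : Prop :=
  ∀ (F : Type) [Field F] [Fintype F] (q : ℕ), Fintype.card F = q ^ 2 → q ≠ 2 → Subgroup.center (PSU 3 F q) = ⊥ →
    Goal.{0, b} (PSU 3 F q)

/-- the goal for the family `PSU_4(q)` -/
def GoalU4.{b} : Prop :=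
  ∀ (F : Type) [Field F] [Fintype F] (q : ℕ), Fintype.card F = q ^ 2 → Subgroup.center (PSU 4 F q) = ⊥ →
    Goal.{0, b} (PSU 4 F q)

/-- the goal for the sporadic groups -/
def GoalSpor.{a, b} : Prop :=
  ∀ (S : Type a) [Group S] [Finite S] [IsSimpleGroup S], ¬ IsMulCommutative S → IsSporadicGroup S → Goal.{a, b} S

theorem center_congr {S : Type u} {T : Type v} [Group S] [Group T] (e : S ≃* T) (h : Subgroup.center S = ⊥) :
    Subgroup.center T = ⊥ := by
  rw [eq_bot_iff]
  intro t ht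
  rw [Subgroup.mem_center_iff] at ht
  have h1 : e.symm t ∈ Subgroup.center S := by
    rw [Subgroup.mem_center_iff]
    intro s
    apply e.injective
    rw [map_mul, map_mul, e.apply_symm_apply]
    exact ht _
  rw [h, Subgroup.mem_bot] at h1
  rw [Subgroup.mem_bot, ← e.apply_symm_apply t, h1, map_one]

theorem goal_known.{a, b} (h1 : GoalS4.{b}) (h2 : GoalU3.{b}) (h3 : GoalU4.{b}) (h4 : GoalSpor.{a, b})
    {S : Type a} [Group S] [Finite S] [IsSimpleGroup S] (hna : ¬ IsMulCommutative S) (h : IsKnownSimple' S) :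
    Goal.{a, b} S := by
  have hZ := center_of_simple hna
  rcases h with h | h | h | h | h | h | h | h | h | h
  · exfalso
    have h' : (Nat.card S).Prime := h
    have := Fact.mk h'
    have hc : IsCyclic S := isCyclic_of_prime_card rfl
    exact hna ⟨⟨fun a b => (IsCyclic.commGroup (α := S)).mul_comm a b⟩⟩
  · obtain ⟨n, hn, ⟨e⟩⟩ := h
    exact (H171.AltGoal.goal_alt hn).congr e.symm
  · obtain ⟨F, _, _, n, hn, h24, ⟨e⟩⟩ := h
    have hZ' := center_congr e hZ
    rcases (show n = 2 ∨ n = 3 ∨ n = 4 ∨ 5 ≤ n by omega) with rfl | rfl | rfl | hn5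
    · exact (H171.PGL2.goal_psl_two (h24 rfl) hZ').congr e.symm
    · exact (goal_psl3 hZ').congr e.symm
    · exact (goal_psl4 hZ').congr e.symm
    · exact (goal_psl_big hn5 hZ').congr e.symm
  · obtain ⟨F, _, _, n, hn, h23, ⟨e⟩⟩ := h
    have hZ' := center_congr e hZ
    rcases (show n = 2 ∨ 3 ≤ n by omega) with rfl | hn3
    · exact (h1 F (h23 rfl) hZ').congr e.symm
    · exact (goal_psp hn3 hZ').congr e.symm
  · obtain ⟨F, _, _, n, q, hF, hn, h32, ⟨e⟩⟩ := h
    have hZ' := center_congr e hZ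
    rcases (show n = 3 ∨ n = 4 ∨ 5 ≤ n by omega) with rfl | rfl | hn5
    · exact (h2 F q hF (fun hq => h32 ⟨rfl, hq⟩) hZ').congr e.symm
    · exact (h3 F q hF hZ').congr e.symm
    · exact (H149.PGU.psu_goal hF hn5).congr e.symm
  · obtain ⟨F, _, _, n, hn, hodd, ⟨e⟩⟩ := h
    exact (goal_oodd hodd hn (center_congr e hZ)).congr e.symm
  · obtain ⟨F, _, _, n, hn, ⟨e⟩⟩ := h
    exact (H149.PGO.plus_goal hn).congr e.symm
  · obtain ⟨F, _, _, n, x, y, hn, hxy, ⟨e⟩⟩ := h
    exact (H149.PGO.minus_goal hn x y hxy).congr e.symm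
  · exact H169.ExcAll.goal_exceptional h
  · exact h4 S hna h

/-- the statement S2529 from the goal for the socle -/
theorem final_of_goal.{b} {G : Type b} [Group G] [Finite G] (S : Subgroup G) [S.Normal]
    (hC : Subgroup.centralizer (S : Set G) = ⊥) (hG : Goal.{b, b} S) :
    (¬ ∃ p q r : ℕ, p.Prime ∧ q.Prime ∧ r.Prime ∧ p ≠ q ∧ q ≠ r ∧ p ≠ r ∧ p ∣ Nat.card G ∧ q ∣ Nat.card G ∧ r ∣ Nat.card G ∧
        (¬ ∃ g : G, orderOf g = p * q) ∧ (¬ ∃ g : G, orderOf g = q * r) ∧ (¬ ∃ g : G, orderOf g = p * r)) ↔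
      ∃ (H : Type) (_ : Group H) (_ : Finite H), Group.IsSolvable H ∧ ((∀ p : ℕ, p.Prime → (p ∣ Nat.card G ↔ p ∣ Nat.card H)) ∧
      (∀ p q : ℕ, p.Prime → q.Prime → p ≠ q → ((∃ g : G, orderOf g = p * q) ↔ (∃ g : H, orderOf g = p * q)))) := by
  constructor
  · intro h
    rcases hG G S ⟨MulEquiv.refl _⟩ hC with h1 | h1
    · exact absurd h1 h
    · exact h1.exists_solvable
  · rintro ⟨H, _, _, hs, h1, h2⟩ ⟨p, q, r, hp, hq, hr, hpq, hqr, hpr, dp, dq, dr, n1, n2, n3⟩
    have hcard : (({p, q, r} : Finset ℕ)).card = 3 := by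
      rw [Finset.card_insert_of_notMem (by simp [hpq, hpr]), Finset.card_insert_of_notMem (by simp [hqr]),
        Finset.card_singleton]
    have hs' := hs
    have hsT : Group.IsSolvable (⊤ : Subgroup H) := inferInstance
    refine (S3633.result (G := H) {p, q, r} hcard.ge ⟨?_, ?_⟩ ⊤ hsT).2 hs
    · intro t ht
      simp only [Finset.mem_insert, Finset.mem_singleton] at ht
      rcases ht with rfl | rfl | rfl
      · exact ⟨hp, (h1 _ hp).1 dp⟩
      · exact ⟨hq, (h1 _ hq).1 dq⟩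
      · exact ⟨hr, (h1 _ hr).1 dr⟩
    · have m1 : ¬ ∃ g : H, orderOf g = p * q := fun h => n1 ((h2 p q hp hq hpq).2 h)
      have m2 : ¬ ∃ g : H, orderOf g = q * r := fun h => n2 ((h2 q r hq hr hqr).2 h)
      have m3 : ¬ ∃ g : H, orderOf g = p * r := fun h => n3 ((h2 p r hp hr hpr).2 h)
      intro t ht s hs' hts
      simp only [Finset.mem_insert, Finset.mem_singleton] at ht hs'
      rcases ht with rfl | rfl | rfl <;> rcases hs' with rfl | rfl | rfl
      · exact absurd rfl hts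
      · exact m1
      · exact m3
      · rwa [mul_comm]
      · exact absurd rfl hts
      · exact m2
      · rwa [mul_comm]
      · rwa [mul_comm]
      · exact absurd rfl hts

end Cfsg.Agent.H163.PG
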