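import Mathlib
import Cfsg.Prelude.Def_Classification2
import Cfsg.Agent.H163.PG.Assemble
import Cfsg.Agent.H171.PGS4
import Cfsg.Agent.H169.U3Fin
import Cfsg.Agent.H169.U4
import Cfsg.Agent.H169.HasHe
import Cfsg.Agent.H149.Sp.All

/-!
# The prime graph theorem for almost simple groups, from the classification (S2529)
-/

set_option autoImplicit false

namespace Cfsg.Agent.H163.PG

open Cfsg

universe u v

theorem goal_all.{a, b} {S : Type a} [Group S] [Finite S] [IsSimpleGroup S] (hna : ¬ IsMulCommutative S)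
    (h : IsKnownSimple' S) : Goal.{a, b} S :=
  goal_known (fun F _ _ h3 hZ => H171.PGS4.goal_psp_two h3 hZ) (fun F _ _ q hF h32 _ => H169.U3.goal_psu3 hF h32)
    (fun F _ _ q hF _ => H169.U4.goal_psu4 hF)
    (fun S _ _ _ _ hs => H149.Sp.goal_sporadic_of (fun S _ _ _ h hs => H169.HeRow.has3Out_he h hs) hs) hna h

/-- **S2529 from the classification of the socle** -/
theorem final_of_known.{b} {G : Type b} [Group G] [Finite G] (S : Subgroup G) [S.Normal] (hS : IsSimpleGroup ↥S)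
    (hS' : ¬ IsMulCommutative ↥S) (hC : Subgroup.centralizer (S : Set G) = ⊥) (hK : IsKnownSimple' ↥S) :
    (¬ ∃ p q r : ℕ, p.Prime ∧ q.Prime ∧ r.Prime ∧ p ≠ q ∧ q ≠ r ∧ p ≠ r ∧ p ∣ Nat.card G ∧ q ∣ Nat.card G ∧ r ∣ Nat.card G ∧
        (¬ ∃ g : G, orderOf g = p * q) ∧ (¬ ∃ g : G, orderOf g = q * r) ∧ (¬ ∃ g : G, orderOf g = p * r)) ↔
      ∃ (H : Type) (_ : Group H) (_ : Finite H), Group.IsSolvable H ∧ ((∀ p : ℕ, p.Prime → (p ∣ Nat.card G ↔ p ∣ Nat.card H)) ∧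
      (∀ p q : ℕ, p.Prime → q.Prime → p ≠ q → ((∃ g : G, orderOf g = p * q) ↔ (∃ g : H, orderOf g = p * q)))) :=
  final_of_goal S hC (goal_all hS' hK)

end Cfsg.Agent.H163.PG
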